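import Cfsg.Agent.H54.Kill.Simple
import Cfsg.Agent.SporRec.TwoAn

/-!
# Kill criterion for involution centralizers `2 . Aₙ` (helper54)
-/

set_option autoImplicit false

namespace Cfsg.Agent.H54.Kill

open Subgroup Cfsg.Agent.H480 Equiv

/-- A permutation of prime order `q ≥ n - 1`, `q` odd, commutes with no involution. -/
theorem perm_cent {n q : ℕ} (hq : q.Prime) (hq2 : q ≠ 2) (hn : n ≤ q + 1) (a b : Perm (Fin n)) (ha : orderOf a = q)
    (hb : b * b = 1) (hab : a * b = b * a) : b = 1 := by
  have hcyc : a.IsCycle := by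
    apply Perm.isCycle_of_prime_order' (by rw [ha]; exact hq)
    rw [ha, Fintype.card_fin]
    have := hq.two_le
    omega
  have hfix : ∀ x, a x ≠ x → b x = x := by
    intro x hx
    have hbx : a (b x) ≠ b x := by
      intro h
      apply hx
      have h1 : a (b x) = b (a x) := congrArg (fun p : Perm (Fin n) => p x) hab
      rw [h] at h1
      exact (b.injective h1).symm
    obtain ⟨k, hk⟩ := hcyc.exists_pow_eq hx hbx
    have hcomm : a ^ k * b = b * a ^ k := ((show Commute a b from hab).pow_left k).eq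
    have h2 : (a ^ k) ((a ^ k) x) = x := by
      rw [hk]
      have h3 : (a ^ k) (b x) = b ((a ^ k) x) := congrArg (fun p : Perm (Fin n) => p x) hcomm
      rw [h3, hk]
      exact congrArg (fun p : Perm (Fin n) => p x) hb
    have h3 : (a ^ (k + k)) x = x := by rw [pow_add]; exact h2
    have h4 : a ^ (k + k) = 1 := (hcyc.pow_eq_one_iff' hx).2 h3
    have h5 : q ∣ k + k := by rw [← ha]; exact orderOf_dvd_of_pow_eq_one h4
    have h6 : q ∣ k := by
      rw [← two_mul] at h5
      exact (Nat.Coprime.dvd_of_dvd_mul_left ((Nat.coprime_primes hq Nat.prime_two).2 hq2) h5)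
    rw [← hk]
    have h7 : a ^ k = 1 := by rw [← ha] at h6; exact orderOf_dvd_iff_pow_eq_one.1 h6
    rw [h7]
    rfl
  by_contra hb1
  have hs : 2 ≤ b.support.card := Perm.two_le_card_support_of_ne_one hb1
  have hdis : Disjoint a.support b.support := by
    rw [Finset.disjoint_left]
    intro x hx hx'
    rw [Perm.mem_support] at hx hx'
    exact hx' (hfix x hx)
  have h1 := Finset.card_union_of_disjoint hdis
  have h2 : (a.support ∪ b.support).card ≤ n := by
    have := Finset.card_le_univ (a.support ∪ b.support)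
    rwa [Fintype.card_fin] at this
  have h3 : a.support.card = q := by rw [← hcyc.orderOf, ha]
  omega

theorem alt_nc {n : ℕ} (hn : 5 ≤ n) : ∃ a b : alternatingGroup (Fin n), a * b ≠ b * a := by
  have hnt : Nontrivial (Fin n) := Fin.nontrivial_iff_two_le.2 (by omega)
  by_contra hcon
  push Not at hcon
  have h1 := alternatingGroup.center_eq_bot (α := Fin n) (by rw [Nat.card_eq_fintype_card, Fintype.card_fin]; omega)
  have h2 : center (alternatingGroup (Fin n)) = ⊤ := by
    rw [eq_top_iff]
    intro x _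
    rw [mem_center_iff]
    intro y
    exact hcon y x
  have h3 : (⊤ : Subgroup (alternatingGroup (Fin n))) = ⊥ := by rw [← h2, h1]
  have h4 : Nat.card (alternatingGroup (Fin n)) = 1 := by
    rw [← Subgroup.card_top, h3, Subgroup.card_bot]
  rw [nat_card_alternatingGroup, Nat.card_fin] at h4
  have h5 : Nat.factorial 5 ≤ Nat.factorial n := Nat.factorial_le hn
  have h6 : Nat.factorial 5 = 120 := rfl
  omega

/-- **Kill** if the centralizer of an involution is `2 . Aₙ`. -/
theorem kill_of_cover {S : Type*} [Group S] {t : S} (ht : orderOf t = 2) {n : ℕ} (hn5 : 5 ≤ n)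
    (L : Cfsg.Agent.SporRec.TwoAn.Cover (Fin n) (centralizer ({t} : Set S))) (hz : (L.z : S) = t) {q : ℕ} (hq : q.Prime)
    (hq2 : q ≠ 2) (hqn : q ≤ n) (hn : n ≤ q + 1) : Kill S := by
  have hsimple : IsSimpleGroup (alternatingGroup (Fin n)) := alternatingGroup.isSimpleGroup (by
    rw [Nat.card_eq_fintype_card, Fintype.card_fin]; exact hn5)
  have hnt : Nontrivial (Fin n) := Fin.nontrivial_iff_two_le.2 (by omega)
  have hmem : ∀ x, L.π x ∈ alternatingGroup (Fin n) := fun x => by rw [← L.range_eq]; exact ⟨x, rfl⟩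
  refine Kill.of_hom ht (L.π.codRestrict (alternatingGroup (Fin n)) hmem) ?_ ?_ hq hq2 ?_ ?_
    (fun N hN hb => not_nilpotent_of_simple (alt_nc hn5) N hN hb)
  · rintro ⟨x, hx⟩
    rw [← L.range_eq] at hx
    obtain ⟨y, rfl⟩ := hx
    exact ⟨y, rfl⟩
  · intro x hx
    rcases (L.ker x).1 (congrArg Subtype.val hx) with h | h
    · left; rw [h]; rfl
    · right; rw [h, hz]
  · rw [nat_card_alternatingGroup, Nat.card_fin]
    have h1 : q ∣ Nat.factorial n := (Nat.Prime.dvd_factorial hq).2 hqn
    have h2 : Nat.factorial n = 2 * (Nat.factorial n / 2) := (Nat.mul_div_cancel' ((Nat.Prime.dvd_factorial Nat.prime_two).2 (by omega))).symm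
    rw [h2] at h1
    exact (Nat.Coprime.dvd_of_dvd_mul_left ((Nat.coprime_primes hq Nat.prime_two).2 hq2) h1)
  · intro a b ha hb hab
    have h1 := perm_cent hq hq2 hn (a : Perm (Fin n)) b (by rw [Subgroup.orderOf_coe, ha])
      (congrArg Subtype.val (sq_of_order hb)) (congrArg Subtype.val hab)
    exact ne_one_of_order hb (by norm_num) (Subtype.ext h1)

end Cfsg.Agent.H54.Kill
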