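import Cfsg.Agent.H54.Kill.Base

/-!
# Kill criterion from orders of centralizers (helper54)

`kill_of_orders` : `z` an involution, `d` of odd prime order `p` commuting with `z`, `4 ∤ |C(d) ∩ C(z)|`,
`p² ∤ |C(z)|`, `|C(d) ∩ C(z)| (p - 1) < |C(z)|`.
-/

set_option autoImplicit false

namespace Cfsg.Agent.H54.Kill

open Subgroup Cfsg.Agent.H480

variable {S : Type*} [Group S]

/-- If the `C`-conjugates of `d` generate a nilpotent group and `p² ∤ |C|`, then `C` normalizes `⟨d⟩`. -/
theorem conj_mem_zpowers [Finite S] {C : Subgroup S} {d : S} {p : ℕ} (hp : p.Prime) (hd : orderOf d = p) (hdC : d ∈ C)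
    (hpp : ¬ p * p ∣ Nat.card C) (hn : Group.IsNilpotent ↥(closure (cjs C d))) {c : S} (hc : c ∈ C) :
    c * d * c⁻¹ ∈ zpowers d := by
  have hfp : Fact p.Prime := ⟨hp⟩
  set D : Subgroup S := closure (cjs C d) with hD
  have hDC : D ≤ C := by
    rw [hD, closure_le]
    rintro _ ⟨m, hm, rfl⟩
    exact mul_mem (mul_mem hm hdC) (inv_mem hm)
  have hdD : d ∈ D := subset_closure (mem_cjs_self C d)
  have hcD : c * d * c⁻¹ ∈ D := subset_closure ⟨c, hc, rfl⟩
  have hco : orderOf (c * d * c⁻¹) = p := by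
    have : (c * d * c⁻¹) = MulAut.conj c d := by simp
    rw [this, ← hd]
    exact orderOf_injective (MulAut.conj c).toMonoidHom (MulAut.conj c).injective d
  have hppD : ¬ p * p ∣ Nat.card D := fun h => hpp (h.trans (Subgroup.card_dvd_of_le hDC))
  obtain ⟨P⟩ : Nonempty (Sylow p ↥D) := inferInstance
  have hPn : (P : Subgroup ↥D).Normal := by
    have := (Group.isNilpotent_of_finite_tfae (G := ↥D)).out 0 3
    exact this.1 hn p hfp P
  have hmem : ∀ x : ↥D, orderOf x = p → x ∈ (P : Subgroup ↥D) := by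
    intro x hx
    have h1 : IsPGroup p (zpowers x) := IsPGroup.of_card (n := 1) (by rw [Nat.card_zpowers, hx, pow_one])
    obtain ⟨Q, hQ⟩ := h1.exists_le_sylow
    have hss := Sylow.unique_of_normal P hPn
    have hQP : Q = P := (hss.uniq Q).trans (hss.uniq P).symm
    rw [← hQP]
    exact hQ (mem_zpowers x)
  have hPc : Nat.card (P : Subgroup ↥D) = p := by
    obtain ⟨n, hPn'⟩ := IsPGroup.iff_card.1 P.isPGroup'
    have h1 : p ^ n ∣ Nat.card D := by
      rw [← hPn']
      exact Subgroup.card_subgroup_dvd_card _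
    have h2 : p ∣ Nat.card (P : Subgroup ↥D) := by
      have h3 : orderOf (⟨⟨d, hdD⟩, hmem ⟨d, hdD⟩ (by rw [Subgroup.orderOf_mk]; exact hd)⟩ : (P : Subgroup ↥D)) = p := by
        rw [Subgroup.orderOf_mk, Subgroup.orderOf_mk]
        exact hd
      conv_lhs => rw [← h3]
      exact orderOf_dvd_natCard _
    rcases n with _ | _ | n
    · rw [hPn', pow_zero] at h2
      exact absurd (Nat.dvd_one.1 h2) hp.ne_one
    · rw [hPn', zero_add, pow_one]
    · exfalso
      apply hppD
      refine dvd_trans ?_ h1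
      rw [← pow_two]
      exact pow_dvd_pow p (by omega)
  have hPz : zpowers (⟨d, hdD⟩ : ↥D) = (P : Subgroup ↥D) := by
    refine Subgroup.eq_of_le_of_card_ge (zpowers_le.2 (hmem _ (by rw [Subgroup.orderOf_mk]; exact hd))) ?_
    rw [Nat.card_zpowers, Subgroup.orderOf_mk, hd, hPc]
  have h5 := hmem ⟨c * d * c⁻¹, hcD⟩ (by rw [Subgroup.orderOf_mk]; exact hco)
  rw [← hPz] at h5
  obtain ⟨k, hk⟩ := mem_zpowers_iff.1 h5
  exact mem_zpowers_iff.2 ⟨k, by simpa using congrArg Subtype.val hk⟩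

/-- The conjugates of `d` generate a group that is not nilpotent. -/
theorem not_nilpotent_of_card [Finite S] {C : Subgroup S} {d : S} {p : ℕ} (hp : p.Prime) (hd : orderOf d = p)
    (hdC : d ∈ C) (hpp : ¬ p * p ∣ Nat.card C)
    (hlt : Nat.card ↥(centralizer ({d} : Set S) ⊓ C) * (p - 1) < Nat.card C) :
    ¬ Group.IsNilpotent ↥(closure (cjs C d)) := by
  classical
  intro hn
  have hconj : ∀ c : ↥C, (c : S) * d * (c : S)⁻¹ ∈ zpowers d := fun c => conj_mem_zpowers hp hd hdC hpp hn c.2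
  have hd1 : d ≠ 1 := by
    rintro rfl
    rw [orderOf_one] at hd
    exact hp.one_lt.ne hd
  -- the orbit of `d` under `C`
  let T : Type _ := {x : S // x ∈ zpowers d ∧ x ≠ 1}
  let g : ↥C → T := fun c => ⟨(c : S) * d * (c : S)⁻¹, hconj c, fun h => hd1 (by
    rw [mul_inv_eq_one] at h
    exact mul_eq_left.1 h)⟩
  have hT : Nat.card T = p - 1 := by
    have hfin : Finite ↥(zpowers d) := inferInstance
    have h1 : Nat.card T = Nat.card {x : ↥(zpowers d) // x ≠ 1} := by
      refine Nat.card_congr ⟨fun x => ⟨⟨x.1, x.2.1⟩, fun h => x.2.2 (congrArg Subtype.val h)⟩,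
        fun x => ⟨x.1.1, x.1.2, fun h => x.2 (Subtype.ext h)⟩, fun _ => rfl, fun _ => rfl⟩
    have : Fintype ↥(zpowers d) := Fintype.ofFinite _
    rw [h1, Nat.card_eq_fintype_card, Fintype.card_subtype_compl, Fintype.card_subtype_eq,
      ← Nat.card_eq_fintype_card, Nat.card_zpowers, hd]
  have hTf : Finite T := Nat.finite_of_card_ne_zero (by
    rw [hT]
    have := hp.two_le
    omega)
  -- fibres
  let E : Subgroup S := centralizer ({d} : Set S) ⊓ C
  have hinj : Nat.card ↥C ≤ Nat.card (T × ↥E) := by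
    -- choose representatives
    let rep : T → ↥C := fun t => if h : ∃ c, g c = t then h.choose else 1
    have hrep : ∀ c : ↥C, g (rep (g c)) = g c := by
      intro c
      have h : ∃ c', g c' = g c := ⟨c, rfl⟩
      simp only [rep, dif_pos h]
      exact h.choose_spec
    let f : ↥C → T × ↥E := fun c => (g c, ⟨((rep (g c) : ↥C) : S)⁻¹ * c, by
      refine mem_inf.2 ⟨mem_centralizer_singleton_iff.2 ?_, C.mul_mem (C.inv_mem (rep (g c)).2) c.2⟩
      have h1 : ((rep (g c) : ↥C) : S) * d * ((rep (g c) : ↥C) : S)⁻¹ = (c : S) * d * (c : S)⁻¹ :=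
        congrArg (fun t : T => (t : S)) (hrep c)
      calc ((rep (g c) : ↥C) : S)⁻¹ * c * d = ((rep (g c) : ↥C) : S)⁻¹ * ((c : S) * d * (c : S)⁻¹) * c := by group
        _ = ((rep (g c) : ↥C) : S)⁻¹ * (((rep (g c) : ↥C) : S) * d * ((rep (g c) : ↥C) : S)⁻¹) * c := by rw [h1]
        _ = d * (((rep (g c) : ↥C) : S)⁻¹ * c) := by group⟩)
    refine Nat.card_le_card_of_injective f ?_
    intro a b hab
    have h1 : g a = g b := congrArg Prod.fst hab
    have h2 := congrArg (fun x : T × ↥E => (x.2 : S)) hab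
    simp only [f] at h2
    rw [h1] at h2
    exact Subtype.ext (mul_left_cancel h2)
  rw [Nat.card_prod, hT, mul_comm] at hinj
  exact absurd hlt (not_lt.2 hinj)

/-- **Criterion** -/
theorem kill_of_orders [Finite S] {z d : S} {p : ℕ} (hz : orderOf z = 2) (hp : p.Prime) (hp2 : p ≠ 2)
    (hd : orderOf d = p) (hzd : z * d = d * z)
    (h4 : ¬ 4 ∣ Nat.card ↥(centralizer ({d} : Set S) ⊓ centralizer ({z} : Set S)))
    (hpp : ¬ p * p ∣ Nat.card ↥(centralizer ({z} : Set S)))
    (hlt : Nat.card ↥(centralizer ({d} : Set S) ⊓ centralizer ({z} : Set S)) * (p - 1) <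
      Nat.card ↥(centralizer ({z} : Set S))) : Kill S := by
  have hdC : d ∈ centralizer ({z} : Set S) := mem_centralizer_singleton_iff.2 hzd.symm
  refine ⟨2, z, d, Nat.prime_two, hz, by rw [hd]; exact (Nat.coprime_primes hp Nat.prime_two).2 hp2, hzd, ?_,
    not_nilpotent_of_card hp hd hdC hpp hlt⟩
  intro x hx hxz hxd
  have hxE : x ∈ centralizer ({d} : Set S) ⊓ centralizer ({z} : Set S) :=
    ⟨mem_centralizer_singleton_iff.2 hxd, mem_centralizer_singleton_iff.2 hxz⟩
  have hzE : z ∈ centralizer ({d} : Set S) ⊓ centralizer ({z} : Set S) :=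
    ⟨mem_centralizer_singleton_iff.2 hzd, mem_centralizer_singleton_iff.2 rfl⟩
  have h1 := mem_zpowers_of_sylow Nat.prime_two (by simpa using h4)
    (z := (⟨z, hzE⟩ : ↥(centralizer ({d} : Set S) ⊓ centralizer ({z} : Set S)))) (x := ⟨x, hxE⟩)
    (by rw [Subgroup.orderOf_mk]; exact hz) (by rw [Subgroup.orderOf_mk]; exact hx) (Subtype.ext hxz)
  obtain ⟨k, hk⟩ := mem_zpowers_iff.1 h1
  exact mem_zpowers_iff.2 ⟨k, by simpa using congrArg Subtype.val hk⟩

end Cfsg.Agent.H54.Kill
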