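import Cfsg.Agent.H54.Kill.Period
import Cfsg.Agent.Fischer.Fi22Order

/-!
# Kill row for Fi22 (helper54)

The seven-cycle on the path `i - h - d - e - f - g` commutes with the symmetric group generated by `a, b`.
-/

set_option autoImplicit false
set_option maxRecDepth 100000

namespace Cfsg.Agent.H54.Kill.Fi22

open Cfsg Cfsg.Spor Cfsg.Spor.Fi22 Cfsg.Agent.Lib.PermNet Cfsg.Agent.Lib.PermNetOrbit
open Cfsg.Agent.Fischer.Fi22PtsRep Cfsg.Agent.H480

theorem comm_wd {x : Gen} (w : List Gen) (h : ∀ y ∈ w, coxLabel edges y x = 2) : wd w * gen x = gen x * wd w := by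
  induction w with
  | nil => simp [wd_nil]
  | cons y w ih =>
    rw [wd_cons, mul_assoc, ih fun z hz => h z (List.mem_cons_of_mem _ hz), ← mul_assoc,
      gen_comm (h y List.mem_cons_self), mul_assoc]

theorem kill {K : Type*} [Group K] (h : Spor.IsoFi22 K) : Kill K := by
  obtain ⟨e⟩ := h
  have : Finite Spor.Fi22 := Fischer.Fi22Order.upper.1
  refine Kill.congr e.symm ?_
  refine kill_of_invol_dvd (r := 7) (by norm_num) (by norm_num) ?_ (w := wd [.i, .h, .d, .e, .f, .g]) (a := gen .a)
    (b := gen .b) ?_ (comm_wd _ (by decide)) (comm_wd _ (by decide)) (gen_sq _) (gen_sq _) ?_ ?_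
  · rw [Fischer.Fi22Order.card_fi22]
    norm_num
  · refine dvd_orderOf_of_point φ _ (by norm_num) 3 ?_ ?_
    · have hk : wd [.i, .h, .d, .e, .f, .g] ^ 7 = wd ((List.replicate 7 [.i, .h, .d, .e, .f, .g]).flatten) := by
        simp [List.replicate, wd_cons, wd_nil, pow_succ, mul_assoc]
      rw [hk, φ_wd_apply]
      exact Nat.eq_of_beq_eq_true (by decide +kernel)
    · rw [φ_wd_apply]
      exact Nat.ne_of_beq_eq_false (by decide +kernel)
  · exact gen_cox .a .b
  · intro h
    have h1 : φ (wd [.a]) 0 = φ (wd [.b]) 0 := by simp only [wd_cons, wd_nil, mul_one, h]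
    rw [φ_wd_apply, φ_wd_apply] at h1
    exact Nat.ne_of_beq_eq_false (by decide +kernel) h1

end Cfsg.Agent.H54.Kill.Fi22
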