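import Cfsg.Agent.SporadicA.GolayPerm

/-!
# Elements of `M24` given by packed permutations (helper54)
-/

set_option autoImplicit false

namespace Cfsg.Agent.H54.Kill.Golay

open Cfsg Cfsg.Agent.SporadicA.GolayBase Cfsg.Agent.SporadicA.GolayPerm

/-- the packed permutation `P` gives an element of `M24` -/
def ok (P : ℕ) : Bool := isPerm P && isAut P

/-- the element of `M24` -/
noncomputable def el (P : ℕ) (h : ok P = true) : M24 :=
  ⟨permOf P (Bool.and_eq_true_iff.1 h).1, permOf_mem_M24 (Bool.and_eq_true_iff.1 h).1 (Bool.and_eq_true_iff.1 h).2⟩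

/-- the action of a product of packed permutations on an index -/
def lapp : List ℕ → ℕ → ℕ
  | [], i => i
  | P :: L, i => papp P (lapp L i)

/-- all packed permutations are in `M24` -/
def oks : List ℕ → Bool
  | [] => true
  | P :: L => ok P && oks L

theorem oks_cons {P : ℕ} {L : List ℕ} (h : oks (P :: L) = true) : ok P = true ∧ oks L = true :=
  Bool.and_eq_true_iff.1 h

/-- the product of a list of packed permutations -/
noncomputable def prod : (L : List ℕ) → oks L = true → M24
  | [], _ => 1
  | P :: L, h => el P (oks_cons h).1 * prod L (oks_cons h).2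

theorem idx_prod (L : List ℕ) (h : oks L = true) (p : GolayPt) :
    idx ((prod L h : Equiv.Perm GolayPt) p) = lapp L (idx p) := by
  induction L with
  | nil => rfl
  | cons P L ih =>
    have h1 := oks_cons h
    rw [show (prod (P :: L) h : Equiv.Perm GolayPt) p =
      (el P h1.1 : Equiv.Perm GolayPt) ((prod L h1.2 : Equiv.Perm GolayPt) p) from rfl]
    rw [show (el P h1.1 : Equiv.Perm GolayPt) = permOf P (Bool.and_eq_true_iff.1 h1.1).1 from rfl, idx_permOf, ih h1.2]
    rfl

/-- equality test -/
def same (L M : List ℕ) : Bool := (List.range 24).all fun i => Nat.beq (lapp L i) (lapp M i)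

theorem prod_eq {L M : List ℕ} (hL : oks L = true) (hM : oks M = true) (h : same L M = true) :
    prod L hL = prod M hM := by
  apply Subtype.ext
  ext1 p
  have h1 : lapp L (idx p) = lapp M (idx p) :=
    Nat.eq_of_beq_eq_true (List.all_eq_true.1 h _ (List.mem_range.2 (idx_lt p)))
  rw [← idx_prod L hL, ← idx_prod M hM] at h1
  exact idx_injective h1

theorem prod_ne {L M : List ℕ} (hL : oks L = true) (hM : oks M = true) (h : same L M = false) :
    prod L hL ≠ prod M hM := by
  intro he
  rw [Bool.eq_false_iff] at h
  apply h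
  refine List.all_eq_true.2 fun i hi => ?_
  have h2 := congrArg (fun g : M24 => idx ((g : Equiv.Perm GolayPt) (pt i))) he
  simp only [idx_prod] at h2
  rw [idx_pt (List.mem_range.1 hi)] at h2
  rw [h2]
  exact Nat.beq_refl _

theorem prod_singleton {P : ℕ} (h : oks [P] = true) : prod [P] h = el P (oks_cons h).1 := mul_one _

theorem prod_pair {P Q : ℕ} (h : oks [P, Q] = true) : prod [P, Q] h =
    el P (oks_cons h).1 * el Q (oks_cons (oks_cons h).2).1 := by
  show _ * (_ * 1) = _
  rw [mul_one]

/-- powers -/
theorem oks_replicate {P : ℕ} (h : ok P = true) (n : ℕ) : oks (List.replicate n P) = true := by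
  induction n with
  | zero => rfl
  | succ n ih => exact Bool.and_eq_true_iff.2 ⟨h, ih⟩

theorem prod_replicate {P : ℕ} (h : ok P = true) (n : ℕ) :
    prod (List.replicate n P) (oks_replicate h n) = el P h ^ n := by
  induction n with
  | zero => exact (pow_zero _).symm
  | succ n ih =>
    rw [pow_succ', ← ih]
    rfl

theorem comm_of {P Q : ℕ} (hP : ok P = true) (hQ : ok Q = true) (h : same [P, Q] [Q, P] = true) :
    el P hP * el Q hQ = el Q hQ * el P hP := by
  have h1 : oks [P, Q] = true := by simp only [oks, hP, hQ, Bool.and_self]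
  have h2 : oks [Q, P] = true := by simp only [oks, hP, hQ, Bool.and_self]
  have h3 := prod_eq h1 h2 h
  rwa [prod_pair, prod_pair] at h3

theorem pow_of {P : ℕ} (hP : ok P = true) (n : ℕ) (h : same (List.replicate n P) [] = true) :
    el P hP ^ n = 1 := by
  rw [← prod_replicate hP n]
  exact prod_eq _ rfl h

theorem ne_one_of {P : ℕ} (hP : ok P = true) (h : same [P] [] = false) : el P hP ≠ 1 := by
  have h1 : oks [P] = true := by simp only [oks, hP, Bool.and_self]
  have h2 := prod_ne h1 (M := []) rfl h
  rwa [prod_singleton] at h2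

theorem ne_of {P Q : ℕ} (hP : ok P = true) (hQ : ok Q = true) (h : same [P] [Q] = false) : el P hP ≠ el Q hQ := by
  have h1 : oks [P] = true := by simp only [oks, hP, Bool.and_self]
  have h2 : oks [Q] = true := by simp only [oks, hQ, Bool.and_self]
  have h3 := prod_ne h1 h2 h
  rwa [prod_singleton, prod_singleton] at h3

theorem mul_pow_three {P Q : ℕ} (hP : ok P = true) (hQ : ok Q = true) (h : same [P, Q, P, Q, P, Q] [] = true) :
    (el P hP * el Q hQ) ^ 3 = 1 := by
  have h1 : oks [P, Q, P, Q, P, Q] = true := by simp only [oks, hP, hQ, Bool.and_self]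
  have h2 := prod_eq h1 (M := []) rfl h
  have h3 : prod [P, Q, P, Q, P, Q] h1 = el P hP * (el Q hQ * (el P hP * (el Q hQ * (el P hP * (el Q hQ * 1))))) := rfl
  rw [h3, mul_one] at h2
  rw [pow_succ, pow_two]
  simp only [mul_assoc]
  exact h2

end Cfsg.Agent.H54.Kill.Golay
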