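import Cfsg.Agent.H54.Kill.Golay

/-!
# Centralizers of elements of `M24` by enumeration (helper54)

An element commuting with `X` is determined by the images of representatives of the cycles of `X`.
-/

set_option autoImplicit false

namespace Cfsg.Agent.H54.Kill.GolayCent

open Cfsg Cfsg.Agent.SporadicA.GolayBase Cfsg.Agent.SporadicA.GolayPerm
open Cfsg.Agent.H54.Kill.Golay

/-- iterate of a packed permutation -/
def it (X : ℕ) (j y : ℕ) : ℕ := Nat.rec y (fun _ ih => papp X ih) j

theorem it_zero (X y : ℕ) : it X 0 y = y := rfl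
theorem it_succ (X j y : ℕ) : it X (j + 1) y = papp X (it X j y) := rfl

/-- the candidate with given images of the representatives; the entry `(k, j)` of `T` at the index `i` means
`i = X^j (r_k)` -/
def cand (X : ℕ) (T : List (ℕ × ℕ)) (ys : List ℕ) : ℕ := pack (T.map fun p => it X p.2 (ys.getD p.1 0))

/-- all candidates -/
def go (X : ℕ) (T : List (ℕ × ℕ)) (test : ℕ → ℕ → Bool) (fin : ℕ → Bool) (rs : List ℕ) : List ℕ → Bool :=
  List.rec (fun ys => fin (cand X T ys))
    (fun r _ ih ys => (List.range 24).all fun y => bif test r y then ih (ys ++ [y]) else true) rs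

theorem go_nil (X : ℕ) (T : List (ℕ × ℕ)) (test : ℕ → ℕ → Bool) (fin : ℕ → Bool) (ys : List ℕ) :
    go X T test fin [] ys = fin (cand X T ys) := rfl

theorem go_cons (X : ℕ) (T : List (ℕ × ℕ)) (test : ℕ → ℕ → Bool) (fin : ℕ → Bool) (r : ℕ) (rs ys : List ℕ) :
    go X T test fin (r :: rs) ys = (List.range 24).all fun y => bif test r y then go X T test fin rs (ys ++ [y]) else true :=
  rfl

theorem go_spec {X : ℕ} {T : List (ℕ × ℕ)} {test : ℕ → ℕ → Bool} {fin : ℕ → Bool} (f : ℕ → ℕ) (hf : ∀ r, f r < 24)
    (rs : List ℕ) (ht : ∀ r ∈ rs, test r (f r) = true) :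
    ∀ ys, go X T test fin rs ys = true → fin (cand X T (ys ++ rs.map f)) = true := by
  induction rs with
  | nil =>
    intro ys h
    rw [List.map_nil, List.append_nil]
    exact h
  | cons r rs ih =>
    intro ys h
    rw [go_cons] at h
    have h1 := List.all_eq_true.1 h (f r) (List.mem_range.2 (hf r))
    rw [ht r List.mem_cons_self, cond_true] at h1
    have h2 := ih (fun r' hr' => ht r' (List.mem_cons_of_mem _ hr')) _ h1
    rwa [List.append_assoc] at h2

/-- the image of the index `i` -/
noncomputable def im (c : M24) (i : ℕ) : ℕ := idx ((c : Equiv.Perm GolayPt) (pt i))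

theorem im_lt (c : M24) (i : ℕ) : im c i < 24 := idx_lt _

theorem im_comm {X : ℕ} (hX : ok X = true) {c : M24} (hc : c * el X hX = el X hX * c) {i : ℕ} (hi : i < 24) :
    im c (papp X i) = papp X (im c i) := by
  have h1 := congrArg (fun g : M24 => idx ((g : Equiv.Perm GolayPt) (pt i))) hc
  have hP := (Bool.and_eq_true_iff.1 hX).1
  have e1 : ((c * el X hX : M24) : Equiv.Perm GolayPt) (pt i) = (c : Equiv.Perm GolayPt) (permOf X hP (pt i)) := rfl
  have e2 : ((el X hX * c : M24) : Equiv.Perm GolayPt) (pt i) = permOf X hP ((c : Equiv.Perm GolayPt) (pt i)) := rfl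
  simp only [e1, e2, idx_permOf] at h1
  rw [permOf_apply, idx_pt hi] at h1
  exact h1

theorem it_lt {X : ℕ} (hX : ok X = true) {i : ℕ} (hi : i < 24) (j : ℕ) : it X j i < 24 := by
  induction j with
  | zero => exact hi
  | succ j ih => exact papp_lt (Bool.and_eq_true_iff.1 hX).1 ih

theorem im_it {X : ℕ} (hX : ok X = true) {c : M24} (hc : c * el X hX = el X hX * c) {i : ℕ} (hi : i < 24) (j : ℕ) :
    im c (it X j i) = it X j (im c i) := by
  induction j with
  | zero => rfl
  | succ j ih => rw [it_succ, it_succ, im_comm hX hc (it_lt hX hi j), ih]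

/-- the table is correct -/
def okT (X : ℕ) (rs : List ℕ) (T : List (ℕ × ℕ)) : Bool :=
  (Nat.beq T.length 24 && rs.all fun r => Nat.blt r 24) &&
    (List.range 24).all fun i => Nat.beq (it X (T.getD i (0, 0)).2 (rs.getD (T.getD i (0, 0)).1 0)) i &&
      Nat.blt (T.getD i (0, 0)).1 rs.length

theorem packOf_eq {X : ℕ} (hX : ok X = true) {rs : List ℕ} {T : List (ℕ × ℕ)} (hT : okT X rs T = true) {c : M24}
    (hc : c * el X hX = el X hX * c) : cand X T (rs.map (im c)) = packOf (c : Equiv.Perm GolayPt) := by
  unfold okT at hT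
  simp only [Bool.and_eq_true] at hT
  obtain ⟨⟨h1, h2⟩, h3⟩ := hT
  have h1' := Nat.eq_of_beq_eq_true h1
  unfold cand packOf
  congr 1
  apply List.ext_getElem
  · rw [List.length_map, List.length_map, List.length_range, h1']
  · intro i hi hi'
    rw [List.length_map] at hi
    have hi24 : i < 24 := by rw [← h1']; exact hi
    rw [List.getElem_map, List.getElem_map, List.getElem_range]
    have h4 := List.all_eq_true.1 h3 i (List.mem_range.2 hi24)
    rw [Bool.and_eq_true] at h4
    obtain ⟨h4, h5⟩ := h4
    have h4' := Nat.eq_of_beq_eq_true h4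
    rw [Nat.blt_eq] at h5
    have e1 : T.getD i (0, 0) = T[i] := by
      rw [List.getD_eq_getElem?_getD, List.getElem?_eq_getElem hi, Option.getD_some]
    rw [e1] at h4' h5
    have e2 : rs.getD T[i].1 0 = rs[T[i].1] := by
      rw [List.getD_eq_getElem?_getD, List.getElem?_eq_getElem h5, Option.getD_some]
    have e3 : (rs.map (im c)).getD T[i].1 0 = im c rs[T[i].1] := by
      rw [List.getD_eq_getElem?_getD, List.getElem?_map, List.getElem?_eq_getElem h5, Option.map_some, Option.getD_some]
    have h6 : rs[T[i].1] < 24 := by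
      have := List.all_eq_true.1 h2 _ (List.getElem_mem h5)
      rwa [Nat.blt_eq] at this
    rw [e2] at h4'
    rw [e3, ← im_it hX hc h6, h4']
    rfl

/-- the packed form of an element of `M24` -/
theorem ok_packOf (c : M24) : ok (packOf (c : Equiv.Perm GolayPt)) = true := by
  unfold ok
  rw [Bool.and_eq_true]
  refine ⟨isPerm_packOf _, isAut_of_mem_M24 (isPerm_packOf _) ?_⟩
  rw [permOf_packOf]
  exact c.2

theorem el_packOf (c : M24) : el (packOf (c : Equiv.Perm GolayPt)) (ok_packOf c) = c :=
  Subtype.ext (permOf_packOf _)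

/-- **Enumeration**: every element of `C(X)` satisfying `test` on the representatives has a packed form `P` with
`fin P`. -/
theorem fin_of_go {X : ℕ} (hX : ok X = true) {rs : List ℕ} {T : List (ℕ × ℕ)} (hT : okT X rs T = true)
    {test : ℕ → ℕ → Bool} {fin : ℕ → Bool} (hgo : go X T test fin rs [] = true) {c : M24}
    (hc : c * el X hX = el X hX * c) (ht : ∀ r ∈ rs, test r (im c r) = true) :
    fin (packOf (c : Equiv.Perm GolayPt)) = true := by
  have h := go_spec (im c) (im_lt c) rs ht [] hgo
  rwa [List.nil_append, packOf_eq hX hT hc] at h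

end Cfsg.Agent.H54.Kill.GolayCent
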