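import Cfsg.Agent.H54.Kill.Base
import Cfsg.Agent.H54.Kill.GolayCent

/-!
# Kill criterion for subgroups of `M24` (helper54)
-/

set_option autoImplicit false

namespace Cfsg.Agent.H54.Kill.GolayKill

open Subgroup Cfsg Cfsg.Agent.H480 Cfsg.Agent.SporadicA.GolayBase Cfsg.Agent.SporadicA.GolayPerm
open Cfsg.Agent.H54.Kill.Golay Cfsg.Agent.H54.Kill.GolayCent

/-- test for the images of the representatives: cycle lengths and the invariant set `D` -/
def test (X D : ℕ) (ms : List ℕ) (r y : ℕ) : Bool :=
  (ms.all fun m => (Nat.beq (it X m y) y) == (Nat.beq (it X m r) r)) && (D.testBit y == D.testBit r)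

/-- test for the candidates -/
def fin (Z P : ℕ) : Bool :=
  bif isPerm P then bif isAut P then bif same [P, P] [] then (same [P] [] || same [P] [Z]) else true else true else true

theorem im_injective (c : M24) {i j : ℕ} (hi : i < 24) (hj : j < 24) (h : im c i = im c j) : i = j := by
  have h1 := idx_injective h
  have h2 := (c : Equiv.Perm GolayPt).injective h1
  rw [← idx_pt hi, ← idx_pt hj, h2]

theorem test_im {X D : ℕ} (hX : ok X = true) (ms : List ℕ) {c : M24} (hc : c * el X hX = el X hX * c)
    (hD : ∀ i, i < 24 → D.testBit (im c i) = D.testBit i) {r : ℕ} (hr : r < 24) : test X D ms r (im c r) = true := by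
  unfold test
  rw [Bool.and_eq_true]
  constructor
  · rw [List.all_eq_true]
    intro m _
    rw [← im_it hX hc hr, beq_iff_eq]
    rcases h : Nat.beq (it X m r) r with _ | _
    · rw [Bool.eq_false_iff]
      intro h1
      have h2 := im_injective c (it_lt hX hr m) hr (Nat.eq_of_beq_eq_true h1)
      rw [h2, Nat.beq_refl] at h
      exact absurd h (by decide)
    · rw [Nat.eq_of_beq_eq_true h]
      exact Nat.beq_refl _
  · rw [hD r hr]
    exact beq_self_eq_true _

theorem eq_of_same {P Q : ℕ} (hP : ok P = true) (hQ : ok Q = true) (h : same [P] [Q] = true) : el P hP = el Q hQ := by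
  have h1 : oks [P] = true := by simp only [oks, hP, Bool.and_self]
  have h2 : oks [Q] = true := by simp only [oks, hQ, Bool.and_self]
  have h3 := prod_eq h1 h2 h
  rwa [prod_singleton, prod_singleton] at h3

theorem eq_one_of_same {P : ℕ} (hP : ok P = true) (h : same [P] [] = true) : el P hP = 1 := by
  have h1 : oks [P] = true := by simp only [oks, hP, Bool.and_self]
  have h3 := prod_eq h1 (M := []) rfl h
  rwa [prod_singleton] at h3

theorem mul_eq_of_same {P Q R : ℕ} (hP : ok P = true) (hQ : ok Q = true) (hR : ok R = true)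
    (h : same [P, Q] [R] = true) : el P hP * el Q hQ = el R hR := by
  have h1 : oks [P, Q] = true := by simp only [oks, hP, hQ, Bool.and_self]
  have h2 : oks [R] = true := by simp only [oks, hR, Bool.and_self]
  have h3 := prod_eq h1 h2 h
  rwa [prod_pair, prod_singleton] at h3

/-- the only involutions commuting with `X` are as expected -/
theorem cent {X Z D : ℕ} (hX : ok X = true) (hZ : ok Z = true) {rs : List ℕ} {T : List (ℕ × ℕ)} (hT : okT X rs T = true)
    {ms : List ℕ} (hgo : go X T (test X D ms) (fin Z) rs [] = true) {c : M24} (hc : c * el X hX = el X hX * c)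
    (hD : ∀ i, i < 24 → D.testBit (im c i) = D.testBit i) (hcc : c * c = 1) : c = 1 ∨ c = el Z hZ := by
  have hr : ∀ r ∈ rs, r < 24 := by
    intro r hr
    unfold okT at hT
    simp only [Bool.and_eq_true] at hT
    have := List.all_eq_true.1 hT.1.2 r hr
    rwa [Nat.blt_eq] at this
  have h := fin_of_go hX hT hgo hc (fun r h => test_im hX ms hc hD (hr r h))
  have hok := ok_packOf c
  set P := packOf (c : Equiv.Perm GolayPt) with hP
  have hc' : el P hok = c := el_packOf c
  have h1 := Bool.and_eq_true_iff.1 hok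
  have h2 : same [P, P] [] = true := by
    by_contra hne
    rw [Bool.not_eq_true] at hne
    have h3 : oks [P, P] = true := by simp only [oks, hok, Bool.and_self]
    have h4 := prod_ne h3 (M := []) rfl hne
    apply h4
    rw [prod_pair, hc', hcc]
    rfl
  unfold fin at h
  rw [h1.1, h1.2, h2] at h
  simp only [cond_true, Bool.or_eq_true] at h
  rcases h with h | h
  · left
    rw [← hc']
    exact eq_one_of_same hok h
  · right
    rw [← hc']
    exact eq_of_same hok hZ h

/-- **Kill** for a subgroup of `M24` -/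
theorem kill_sub {H : Subgroup (Equiv.Perm GolayPt)} (hH : H ≤ M24) {X Z D E Q Ei Qi : ℕ} (hX : ok X = true)
    (hZ : ok Z = true) (hE : ok E = true) (hQ : ok Q = true) (hEi : ok Ei = true) (hQi : ok Qi = true)
    (mZ : (el Z hZ : Equiv.Perm GolayPt) ∈ H) (mE : (el E hE : Equiv.Perm GolayPt) ∈ H)
    (mQ : (el Q hQ : Equiv.Perm GolayPt) ∈ H) (hDH : ∀ g ∈ H, ∀ i, i < 24 → D.testBit (idx (g (pt i))) = D.testBit i)
    {rs : List ℕ} {T : List (ℕ × ℕ)} (hT : okT X rs T = true) {ms : List ℕ}
    (hgo : go X T (test X D ms) (fin Z) rs [] = true)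
    (c1 : same [Z, E] [X] = true) (c2 : same [Z, E] [E, Z] = true) (c3 : same [Z, Z] [] = true)
    (c4 : same [Z] [] = false) {m k : ℕ} (hm : Odd m) (c5 : same (List.replicate m E) [] = true)
    (c6 : same [Q, Z] [Z, Q] = true) (c7 : same [Q, Qi] [] = true) (c8 : same [E, Ei] [] = true)
    (hkm : k.Coprime m) {W : ℕ} (hW : ok W = true) (c9 : same [Q, E, Qi, Ei] [W] = true)
    (c10 : same (List.replicate k W) [] = true) (c11 : same [W, E] [E, W] = false) : Kill ↥H := by
  have e1 : el Z hZ * el E hE = el X hX := mul_eq_of_same hZ hE hX c1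
  have e2 : el Z hZ * el E hE = el E hE * el Z hZ := comm_of hZ hE c2
  have e3 : el Z hZ * el Z hZ = 1 := by
    have h1 : oks [Z, Z] = true := by simp only [oks, hZ, Bool.and_self]
    have h2 := prod_eq h1 (M := []) rfl c3
    rwa [prod_pair] at h2
  have e4 : el Z hZ ≠ 1 := ne_one_of hZ c4
  have e5 : el E hE ^ m = 1 := pow_of hE m c5
  have e6 : el Q hQ * el Z hZ = el Z hZ * el Q hQ := comm_of hQ hZ c6
  have e7 : el Q hQ * el Qi hQi = 1 := by
    have h1 : oks [Q, Qi] = true := by simp only [oks, hQ, hQi, Bool.and_self]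
    have h2 := prod_eq h1 (M := []) rfl c7
    rwa [prod_pair] at h2
  have e8 : el E hE * el Ei hEi = 1 := by
    have h1 : oks [E, Ei] = true := by simp only [oks, hE, hEi, Bool.and_self]
    have h2 := prod_eq h1 (M := []) rfl c8
    rwa [prod_pair] at h2
  have e9 : el Q hQ * el E hE * (el Q hQ)⁻¹ * (el E hE)⁻¹ = el W hW := by
    rw [← eq_inv_of_mul_eq_one_right e7, ← eq_inv_of_mul_eq_one_right e8]
    have h1 : oks [Q, E, Qi, Ei] = true := by simp only [oks, hQ, hE, hQi, hEi, Bool.and_self]
    have h2 : oks [W] = true := by simp only [oks, hW, Bool.and_self]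
    have h3 := prod_eq h1 h2 c9
    rw [prod_singleton] at h3
    rw [← h3]
    show _ = _ * (_ * (_ * (_ * 1)))
    rw [mul_one]
    simp only [mul_assoc]
  have e10 : el W hW ^ k = 1 := pow_of hW k c10
  have e11 : el W hW * el E hE ≠ el E hE * el W hW := by
    have h1 : oks [W, E] = true := by simp only [oks, hW, hE, Bool.and_self]
    have h2 : oks [E, W] = true := by simp only [oks, hW, hE, Bool.and_self]
    have h3 := prod_ne h1 h2 c11
    rwa [prod_pair, prod_pair] at h3
  -- the elements of `H`
  let z : H := ⟨el Z hZ, mZ⟩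
  let d : H := ⟨el E hE, mE⟩
  let q : H := ⟨el Q hQ, mQ⟩
  have v : ∀ {a b : M24}, a = b → (a : Equiv.Perm GolayPt) = b := fun h => congrArg Subtype.val h
  have v' : ∀ {a b : H}, a = b → (a : Equiv.Perm GolayPt) = b := fun h => congrArg (Subtype.val : H → _) h
  have hz2 : z * z = 1 := Subtype.ext (v e3)
  have hz1 : z ≠ 1 := fun h => e4 (Subtype.ext (v' h))
  have hdm : d ^ m = 1 := Subtype.ext (v e5)
  have hzd : z * d = d * z := Subtype.ext (v e2)
  have hqz : q * z = z * q := Subtype.ext (v e6)
  have hcom : ((q * d * q⁻¹ * d⁻¹ : H) : Equiv.Perm GolayPt) = el W hW := v e9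
  refine Kill.of_inv (z := z) (d := d) (orderOf_eq_prime (by rw [pow_two]; exact hz2) hz1)
    (Odd.of_dvd_nat hm (orderOf_dvd_of_pow_eq_one hdm)) hzd ?_ ?_
  · intro x hx hxz hxd
    have hxX : (⟨x, hH x.2⟩ : M24) * el X hX = el X hX * ⟨x, hH x.2⟩ := by
      rw [← e1]
      have h1 : x * (z * d) = z * d * x := by rw [← mul_assoc, hxz, mul_assoc, hxd, mul_assoc]
      exact Subtype.ext (v' h1)
    rcases cent hX hZ hT hgo hxX (fun i hi => hDH x x.2 i hi) (Subtype.ext (v' hx)) with h | h
    · exact Or.inl (Subtype.ext (v h))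
    · exact Or.inr (Subtype.ext (v h))
  · refine not_nilpotent_of_commutator (q := q) (mem_centralizer_singleton_iff.2 hqz) ?_ ?_
    · have h1 : (q * d * q⁻¹ * d⁻¹) ^ k = 1 := by
        apply Subtype.ext
        rw [SubmonoidClass.coe_pow, hcom]
        exact v e10
      exact Nat.Coprime.coprime_dvd_left (orderOf_dvd_of_pow_eq_one h1)
        (Nat.Coprime.coprime_dvd_right (orderOf_dvd_of_pow_eq_one hdm) hkm)
    · intro h
      apply e11
      apply Subtype.ext
      have h1 := congrArg (Subtype.val : H → Equiv.Perm GolayPt) h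
      rw [Subgroup.coe_mul, hcom, Subgroup.coe_mul, hcom] at h1
      exact h1

end Cfsg.Agent.H54.Kill.GolayKill
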