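import Cfsg.Agent.H54.Kill.Simple
import Cfsg.Agent.KFacts.HS.Trans

/-!
# Kill row for `HS` (helper54)

`z` is a central involution, `d` an element of order 5 of its centralizer `(4 ∘ 2^(1+4)) . S₅`; `C(z) ∩ C(d)` is cyclic of
order 20.
-/

set_option autoImplicit false

namespace Cfsg.Agent.H54.Kill.HS

open Cfsg.Agent.H480
open Cfsg.Agent.HN Cfsg.Agent.HN.Pres Cfsg.Agent.HN.HS100 Cfsg.Agent.HN.P1408 Cfsg.Agent.HN.H0Basic
open Cfsg.Agent.HN.XMat Cfsg.Agent.HN.WMask
open Cfsg.Agent.KFacts.HS Cfsg.Agent.KFacts.HS.Cent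
open Cfsg.Agent.SporadicA.PermTab (band band_eq_true allB allB_iff)

/-- word of an element of order 5 -/
def w5 : List ℕ := [0, 0, 1, 1, 0, 1, 1]

theorem w5_mem : w5 ∈ S5W := by decide +kernel

/-- the element of order 5 -/
def d0 : H0 := E w5

theorem d0_mem : d0 ∈ K := E_mem_K (S5_lt w5_mem)

theorem d0_pow : d0 * d0 * d0 * d0 * d0 = 1 := by
  rw [d0, E, ← hw_append, ← hw_append, ← hw_append, ← hw_append, ← hw_nil]
  exact hw_eq (by decide +kernel)

theorem d0_b : d0 ∈ Pt := mem_Pt.2 ⟨(E_b (S5_lt w5_mem)).symm, d0_mem⟩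

/-- words commuting with `w5` and of square 1 -/
def chkC (w : List ℕ) : Bool :=
  bif w.isEmpty then true else
    bif allB (fun i => Nat.beq (fw w5 (fw w (2 ^ i))) (fw w (fw w5 (2 ^ i)))) 7 then
      bif allB (fun i => Nat.beq (fw w (fw w (2 ^ i))) (2 ^ i)) 7 then false else true
    else true

theorem chkC_all : S5W.all chkC = true := by decide +kernel

/-- masks fixed by `w5` -/
def chkM (m : ℕ) : Bool :=
  bif Nat.beq (fw w5 m) m then
    bif par (rmw m) then true else
      bif Nat.beq m 0 then true else bif Nat.beq m 1 then true else bif Nat.beq m 28 then true else Nat.beq m 29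
  else true

theorem chkM_all : allB chkM 128 = true := by decide +kernel

theorem of_chkM {m : ℕ} (hm : m < 128) (h : fw w5 m = m) (hp : par (rmw m) = false) :
    m = 0 ∨ m = 1 ∨ m = 28 ∨ m = 29 := by
  have h1 := (allB_iff _ _).1 chkM_all m hm
  unfold chkM at h1
  rw [h, Nat.beq_refl, cond_true, hp, cond_false] at h1
  cases h2 : Nat.beq m 0
  · rw [h2, cond_false] at h1
    cases h3 : Nat.beq m 1
    · rw [h3, cond_false] at h1
      cases h4 : Nat.beq m 28
      · rw [h4, cond_false] at h1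
        exact Or.inr (Or.inr (Or.inr (Nat.eq_of_beq_eq_true h1)))
      · exact Or.inr (Or.inr (Or.inl (Nat.eq_of_beq_eq_true h4)))
    · exact Or.inr (Or.inl (Nat.eq_of_beq_eq_true h3))
  · exact Or.inl (Nat.eq_of_beq_eq_true h2)

theorem of_chkC {w : List ℕ} (hw : w ∈ S5W) (h1 : ∀ m < 128, fw w5 (fw w m) = fw w (fw w5 m))
    (h2 : ∀ m < 128, fw w (fw w m) = m) : w = [] := by
  have h := List.all_eq_true.1 chkC_all w hw
  unfold chkC at h
  have h3 : allB (fun i => Nat.beq (fw w5 (fw w (2 ^ i))) (fw w (fw w5 (2 ^ i)))) 7 = true :=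
    (allB_iff _ _).2 fun i hi => by
      show Nat.beq (fw w5 (fw w (2 ^ i))) (fw w (fw w5 (2 ^ i))) = true
      rw [h1 _ (two_pow_lt hi)]
      exact Nat.beq_refl _
  have h4 : allB (fun i => Nat.beq (fw w (fw w (2 ^ i))) (2 ^ i)) 7 = true :=
    (allB_iff _ _).2 fun i hi => by
      show Nat.beq (fw w (fw w (2 ^ i))) (2 ^ i) = true
      rw [h2 _ (two_pow_lt hi)]
      exact Nat.beq_refl _
  rw [h3, h4] at h
  cases h5 : w.isEmpty
  · rw [h5] at h
    exact absurd h (by decide)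
  · exact List.isEmpty_iff.1 h5

theorem act_d0 : Act d0 (fw w5) := Act.E (S5_lt w5_mem)

theorem τ_ne : τ ≠ 1 := by
  intro h
  have h1 : R 1 * sg false = R 0 * sg false := by rw [R_one, R_zero, h]
  exact absurd (R_inj (by norm_num) (by norm_num) h1).1 (by norm_num)

theorem act_τ : Act τ (fun m => m) where
  cb := τ_comm b
  lt _ h := h
  eq m _ := ⟨false, by
    show R m * τ = τ * (R m * 1)
    rw [mul_one, τ_comm]⟩

/-- elements of order 2 of `C(z)` modulo `τ` commuting with `d0` -/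
theorem cent {h : H0} (hh : h ∈ Pt) (hd : h * d0 = d0 * h ∨ h * d0 = d0 * h * τ) (h2 : h * h = 1 ∨ h * h = τ) :
    h = 1 ∨ h = τ ∨ h = b ∨ h = b * τ := by
  -- the elements commute
  have hcd : h * d0 = d0 * h := by
    rcases hd with hd | hd
    · exact hd
    · exfalso
      have e1 : h * d0 * h⁻¹ = d0 * τ := by
        rw [hd]
        calc d0 * h * τ * h⁻¹ = d0 * (h * τ) * h⁻¹ := by group
          _ = d0 * (τ * h) * h⁻¹ := by rw [τ_comm h]
          _ = d0 * τ := by group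
      have e2 : h * (d0 * d0 * d0 * d0 * d0) * h⁻¹ = (h * d0 * h⁻¹) * (h * d0 * h⁻¹) * (h * d0 * h⁻¹) *
        (h * d0 * h⁻¹) * (h * d0 * h⁻¹) := by group
      rw [d0_pow, e1, mul_one, mul_inv_cancel] at e2
      have hc : Commute d0 τ := τ_comm d0
      have e3 : (d0 * τ) * (d0 * τ) * (d0 * τ) * (d0 * τ) * (d0 * τ) = (d0 * τ) ^ 5 := by
        simp only [pow_succ, pow_zero, one_mul]
      have e4 : d0 ^ 5 = 1 := by
        rw [← d0_pow]
        simp only [pow_succ, pow_zero, one_mul]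
      rw [e3, hc.mul_pow, e4, one_mul] at e2
      have e5 : τ ^ 5 = τ := by
        have : τ ^ 5 = (τ * τ) * (τ * τ) * τ := by simp only [pow_succ, pow_zero, one_mul, mul_assoc]
        rw [this, τ_mul_τ, one_mul, one_mul]
      rw [e5] at e2
      exact τ_ne e2.symm
  obtain ⟨m, hm, hp, w, hw1, e, rfl⟩ := exists_of_mem_Pt hh
  have ha : Act (el m w e) (fw w) := Act.el m hw1 e
  have h3 : ∀ k < 128, fw w5 (fw w k) = fw w (fw w5 k) := by
    intro k hk
    have c1 := ha.mul act_d0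
    rw [hcd] at c1
    exact c1.uniq (act_d0.mul ha) hk
  have h4 : ∀ k < 128, fw w (fw w k) = k := by
    intro k hk
    have c1 := ha.mul ha
    rcases h2 with h2 | h2
    · rw [h2] at c1
      exact c1.uniq Act.one hk
    · rw [h2] at c1
      exact c1.uniq act_τ hk
  have hw0 := of_chkC hw1 h3 h4
  subst hw0
  have hel : el m [] e = R m * sg e := by
    show R m * 1 * sg e = R m * sg e
    rw [mul_one]
  rw [hel] at hcd h2 ⊢
  have hbd : b * d0 = d0 * b := act_d0.cb
  have h5 : R m * d0 = d0 * R m := by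
    have h6 : R m * sg e * d0 = R m * d0 * sg e := by rw [mul_assoc, sg_comm hbd, ← mul_assoc]
    rw [h6, ← mul_assoc] at hcd
    exact mul_right_cancel hcd
  obtain ⟨e1, he1⟩ := act_d0.eq m hm
  rw [h5] at he1
  have h6 : R m * sg false = R (fw w5 m) * sg e1 := by
    have := mul_left_cancel he1
    rw [this]
    show _ * 1 = _
    rw [mul_one]
  have h7 := (R_inj hm (act_d0.lt m hm) h6).1
  have hse : ∀ e : Bool, sg e * sg e = 1 := fun e => by rw [sg_mul, Bool.xor_self]; rfl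
  have hsub : ∀ e : Bool, sg e = 1 ∨ sg e = b := fun e => by cases e; exacts [Or.inl rfl, Or.inr rfl]
  have hU : R 28 = Cent.U := rfl
  rcases of_chkM hm h7.symm hp with rfl | rfl | rfl | rfl
  · rw [R_zero, one_mul]
    rcases hsub e with h | h <;> rw [h]
    · exact Or.inl rfl
    · exact Or.inr (Or.inr (Or.inl rfl))
  · rw [R_one]
    rcases hsub e with h | h <;> rw [h]
    · exact Or.inr (Or.inl (mul_one _))
    · exact Or.inr (Or.inr (Or.inr (τ_comm b).symm))
  · exfalso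
    have h8 : R 28 * sg e * (R 28 * sg e) = b := by
      calc R 28 * sg e * (R 28 * sg e) = R 28 * (sg e * R 28) * sg e := by group
        _ = R 28 * (R 28 * sg e) * sg e := by rw [R_sg]
        _ = (R 28 * R 28) * (sg e * sg e) := by group
        _ = b := by rw [hse, mul_one, hU, U_sq]
    rw [h8] at h2
    rcases h2 with h | h
    · exact b_ne h
    · exact sg_ne_τ true h
  · exfalso
    obtain ⟨e2, he2⟩ := R_mul 28 1
    have h29 : R 29 = Cent.U * τ * sg e2 := by
      have : R 28 * R 1 * sg e2 = R 29 := by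
        rw [he2, mul_assoc, hse, mul_one]
        rfl
      rw [← this, R_one, hU]
    have hUb : b * Cent.U = Cent.U * b := by rw [← U_sq, mul_assoc]
    have h8 : R 29 * sg e * (R 29 * sg e) = b := by
      have h9 : R 29 * sg e * (R 29 * sg e) = (R 29 * R 29) * (sg e * sg e) := by
        calc R 29 * sg e * (R 29 * sg e) = R 29 * (sg e * R 29) * sg e := by group
          _ = R 29 * (R 29 * sg e) * sg e := by rw [R_sg]
          _ = _ := by group
      rw [h9, hse, mul_one, h29]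
      have hU2 : ∀ e : Bool, sg e * Cent.U = Cent.U * sg e := fun e => sg_comm hUb e
      calc Cent.U * τ * sg e2 * (Cent.U * τ * sg e2) = Cent.U * τ * (sg e2 * Cent.U) * τ * sg e2 := by group
        _ = Cent.U * τ * (Cent.U * sg e2) * τ * sg e2 := by rw [hU2]
        _ = Cent.U * (τ * Cent.U) * (sg e2 * τ) * sg e2 := by group
        _ = Cent.U * (Cent.U * τ) * (τ * sg e2) * sg e2 := by rw [τ_comm Cent.U, τ_comm (sg e2)]
        _ = (Cent.U * Cent.U) * (τ * τ) * (sg e2 * sg e2) := by group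
        _ = b := by rw [τ_mul_τ, hse, mul_one, mul_one, U_sq]
    rw [h8] at h2
    rcases h2 with h | h
    · exact b_ne h
    · exact sg_ne_τ true h

/-- word of the commutator of `R 2` and `d0` -/
def cw : List ℕ := rmw 2 ++ (ew w5 ++ (rmw 2 ++ (ew w5 ++ (ew w5 ++ (ew w5 ++ ew w5)))))

theorem cw_eq : hw cw = R 2 * (d0 * (R 2 * (d0 * (d0 * (d0 * d0))))) := by
  unfold cw
  simp only [hw_append]
  rfl

theorem R2_sq : R 2 * R 2 = 1 := by
  rw [R, ← hw_append, ← hw_nil]
  exact hw_eq (by decide +kernel)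

theorem d0_inv : d0⁻¹ = d0 * (d0 * (d0 * d0)) := by
  rw [inv_eq_iff_mul_eq_one]
  simpa only [mul_assoc] using d0_pow

theorem comm_eq : R 2 * d0 * (R 2)⁻¹ * d0⁻¹ = hw cw := by
  rw [cw_eq, d0_inv, inv_eq_of_mul_eq_one_left R2_sq]
  simp only [mul_assoc]

theorem cw_pow : hw cw * (hw cw * (hw cw * hw cw)) = 1 := by
  rw [← hw_append, ← hw_append, ← hw_append, ← hw_nil]
  exact hw_eq (by decide +kernel)

theorem cw_ne : hw cw * d0 ≠ d0 * hw cw := by
  intro h
  rw [d0, E, ← hw_append, ← hw_append] at h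
  have h1 := eqw_of_hw_eq (by decide +kernel) (by decide +kernel) h
  exact absurd h1 (by decide +kernel)

theorem cw_ne' : hw cw * d0 ≠ d0 * hw cw * τ := by
  intro h
  rw [d0, E, ← R_one, R, ← hw_append, ← hw_append, ← hw_append] at h
  have h1 := eqw_of_hw_eq (by decide +kernel) (by decide +kernel) h
  exact absurd h1 (by decide +kernel)

theorem R2_mem : R 2 ∈ K := (R_mem_K_iff (by norm_num)).2 (by decide +kernel)

theorem R2_mem' : R 2 ∈ Pt := mem_Pt.2 ⟨(R_b 2).symm, R2_mem⟩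

theorem cw_mem : hw cw ∈ K := by
  rw [← comm_eq]
  exact K.mul_mem (K.mul_mem (K.mul_mem R2_mem d0_mem) (K.inv_mem R2_mem)) (K.inv_mem d0_mem)

theorem kill {L : Type*} [Group L] (h : Cfsg.Spor.IsoHS L) : Kill L := by
  obtain ⟨D⟩ := exists_mod h
  have hzz : D.z * D.z = 1 := by
    unfold Mod.z
    rw [D.π_mul, D.π_eq_one]
    exact Or.inl b_sq
  have hz1 : D.z ≠ 1 := by
    unfold Mod.z
    rw [Ne, D.π_eq_one]
    rintro (h | h)
    · exact b_ne h
    · exact sg_ne_τ true h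
  have hd5 : (D.π ⟨d0, d0_mem⟩) ^ 5 = 1 := by
    have h1 : (⟨d0, d0_mem⟩ : K) ^ 5 = 1 := by
      apply Subtype.ext
      show d0 ^ 5 = 1
      rw [← d0_pow]
      simp only [pow_succ, pow_zero, one_mul]
    rw [← map_pow, h1, map_one]
  have hdz : D.π ⟨d0, d0_mem⟩ * D.z = D.z * D.π ⟨d0, d0_mem⟩ := (D.comm_z d0_mem).2 d0_b
  have hcomm : D.π ⟨R 2, R2_mem⟩ * D.π ⟨d0, d0_mem⟩ * (D.π ⟨R 2, R2_mem⟩)⁻¹ * (D.π ⟨d0, d0_mem⟩)⁻¹ =
      D.π ⟨hw cw, cw_mem⟩ := by
    rw [← map_inv, ← map_inv, ← map_mul, ← map_mul, ← map_mul]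
    exact congrArg D.π (Subtype.ext comm_eq)
  refine Kill.of_inv (z := D.z) (d := D.π ⟨d0, d0_mem⟩) (orderOf_eq_prime (by rw [pow_two]; exact hzz) hz1)
    (Odd.of_dvd_nat (by decide) (orderOf_dvd_of_pow_eq_one hd5)) hdz.symm ?_ ?_
  · intro x hx hxz hxd
    obtain ⟨⟨h, hk⟩, rfl⟩ := D.surj x
    have h1 := (D.comm_z hk).1 hxz
    rw [D.π_mul, D.π_mul, D.π_eq] at hxd
    rw [D.π_mul, D.π_eq_one] at hx
    have h2 := cent h1 hxd hx
    rw [D.π_eq_one]
    unfold Mod.z
    rw [D.π_eq]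
    rcases h2 with h2 | h2 | h2 | h2
    · exact Or.inl (Or.inl h2)
    · exact Or.inl (Or.inr h2)
    · exact Or.inr (Or.inl h2)
    · exact Or.inr (Or.inr h2)
  · refine not_nilpotent_of_commutator (q := D.π ⟨R 2, R2_mem⟩)
      (Subgroup.mem_centralizer_singleton_iff.2 ((D.comm_z R2_mem).2 R2_mem')) ?_ ?_
    · rw [hcomm]
      have h4 : (D.π ⟨hw cw, cw_mem⟩) ^ 4 = 1 := by
        have h1 : (⟨hw cw, cw_mem⟩ : K) ^ 4 = 1 := by
          apply Subtype.ext
          show hw cw ^ 4 = 1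
          rw [← cw_pow]
          simp only [pow_succ, pow_zero, one_mul, mul_assoc]
        rw [← map_pow, h1, map_one]
      refine Nat.Coprime.coprime_dvd_left (orderOf_dvd_of_pow_eq_one h4) ?_
      exact Nat.Coprime.coprime_dvd_right (orderOf_dvd_of_pow_eq_one hd5) (by norm_num)
    · rw [hcomm, D.π_mul, D.π_mul, Ne, D.π_eq]
      rintro (h | h)
      · exact cw_ne h
      · exact cw_ne' h

end Cfsg.Agent.H54.Kill.HS
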