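import Cfsg.Agent.H54.Kill.Elt
import Cfsg.Agent.CpAutHe.Bound
import Cfsg.Agent.KFacts.He.TwoACent

/-!
# Kill row for `He` (helper54)

`X = c d f d c d b` has order 15 and a centralizer of order 15; the centralizer of the part of order 3 is `3 . A₇`.
-/

set_option autoImplicit false

namespace Cfsg.Agent.H54.Kill.He

open Subgroup Cfsg.Agent.H480
open Cfsg.Spor Cfsg.Spor.He Cfsg.Agent.SporadicB.HePerm
open Cfsg.Agent.FixBN.HeStab Cfsg.Agent.KFacts.He.Lv Cfsg.Agent.CpAutHe.Cnt Cfsg.Agent.CpAutHe.Bound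

/-- the word of the element of order 15 -/
def X : List Gen := [.c, .d, .f, .d, .c, .d, .b]

/-- an element commuting with `X ^ 10` -/
def q : List Gen := [.d, .c, .f, .d, .g, .d, .c, .f, .e, .d, .a, .e]

set_option maxRecDepth 100000

/-- chain of points with only one possible image -/
def chk (X : List Gen) (F : List ℕ) (L : List (ℕ × List ℕ × List ℕ)) : Bool :=
  List.rec (fun F => (elemN 0 F && elemN 1 F) && (elemN 32 F && elemN 8 F))
    (fun s _ ih F => (Nat.blt s.1 2058 && (s.2.1.all fun a => elemN a F)) &&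
      (Nat.beq (cnt 2058 (tst X s.2.1 s.2.2 s.1)) 1 && ih (nx X F s.1))) L F

theorem chk_nil (X : List Gen) (F : List ℕ) : chk X F [] = ((elemN 0 F && elemN 1 F) && (elemN 32 F && elemN 8 F)) := rfl

theorem chk_cons (X : List Gen) (F : List ℕ) (s : ℕ × List ℕ × List ℕ) (L : List (ℕ × List ℕ × List ℕ)) :
    chk X F (s :: L) = ((Nat.blt s.1 2058 && (s.2.1.all fun a => elemN a F)) &&
      (Nat.beq (cnt 2058 (tst X s.2.1 s.2.2 s.1)) 1 && chk X (nx X F s.1) L)) := rfl

theorem eq_one_of_chk {X : List Gen} {c : Cfsg.Spor.He} (hc : c * wd X = wd X * c) (L : List (ℕ × List ℕ × List ℕ)) :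
    ∀ F : List ℕ, (∀ f ∈ F, Fx c f) → chk X F L = true → c = 1 := by
  induction L with
  | nil =>
    intro F hF h
    rw [chk_nil] at h
    simp only [Bool.and_eq_true] at h
    obtain ⟨⟨h0, h1⟩, h2, h3⟩ := h
    have e : ∀ i, phi (1 : Cfsg.Spor.He) i = i := fun i => by rw [map_one]; rfl
    have k : ∀ i : Fin 2058, (i : ℕ) ∈ F → phi c i = i := by
      intro i hi
      obtain ⟨hlt, h⟩ := hF _ hi
      exact h
    apply eq_of_base
    · rw [e]; exact k 0 (of_elemN h0)
    · rw [e]; exact k 1 (of_elemN h1)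
    · rw [e]; exact k 32 (of_elemN h2)
    · rw [e]; exact k 8 (of_elemN h3)
  | cons s L ih =>
    intro F hF h
    rw [chk_cons] at h
    simp only [Bool.and_eq_true] at h
    obtain ⟨⟨h0, h1⟩, h2, h3⟩ := h
    rw [Nat.blt_eq] at h0
    have hfix := fix_of_one hc hF ⟨s.1, h0⟩ s.2.1 s.2.2 (sub_of_chk h1) (Nat.eq_of_beq_eq_true h2)
    exact ih (nx X F s.1) (fx_nx hc hF hfix) h3

theorem chk_X : chk X (nx X [] 31) [(32, [1104, 31, 195], [1]), (8, [75, 1101, 32, 930, 1981], []),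
    (0, [1981, 823, 1720, 1104], []), (1, [857, 930, 2006, 194], [])] = true := by decide +kernel

theorem cnt_X : cnt 2058 (tst X [] [2, 1] 31) = 30 := by decide +kernel

theorem card_X : Nat.card ↥(centralizer ({wd X} : Set Cfsg.Spor.He)) ≤ 30 := by
  have hC : ∀ c ∈ centralizer ({wd X} : Set Cfsg.Spor.He), c * wd X = wd X * c := fun c hc =>
    mem_centralizer_singleton_iff.1 hc
  have h1 : Nat.card ↥(st (centralizer ({wd X} : Set Cfsg.Spor.He)) 31) ≤ 1 := by
    rw [Subgroup.card_le_one_iff_eq_bot, eq_bot_iff_forall]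
    intro c hc
    exact eq_one_of_chk (hC c (mem_st.1 hc).1) _ _
      (fx_nx (p := 31) (hC c (mem_st.1 hc).1) (fun _ hf => absurd hf List.not_mem_nil) (mem_st.1 hc).2) chk_X
  exact step (F := []) hC (fun _ _ f hf => absurd hf List.not_mem_nil) 31 [] [2, 1] (fun _ h => h) cnt_X h1

theorem X_pow : wd X ^ (3 * 5) = 1 := by
  rw [← wd_pw, ← wd_nil]
  exact eq_of_chkB (by decide +kernel)

theorem X_pow3 : wd X ^ 3 ≠ 1 := by
  rw [← wd_pw, ← wd_nil]
  exact Cfsg.Agent.KFacts.He.TwoACent.ne_of_act 31 (by decide +kernel)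

theorem X_pow5 : wd X ^ 5 ≠ 1 := by
  rw [← wd_pw, ← wd_nil]
  exact Cfsg.Agent.KFacts.He.TwoACent.ne_of_act 31 (by decide +kernel)

theorem q_inv : (wd q)⁻¹ = wd q := by
  apply inv_eq_of_mul_eq_one_left
  rw [← wd_append, ← wd_nil]
  exact eq_of_chkB (by decide +kernel)

theorem X6_inv : (wd X ^ 6)⁻¹ = wd X ^ 9 := by
  apply inv_eq_of_mul_eq_one_left
  rw [← pow_add]
  exact X_pow

/-- the word of the commutator -/
def cw : List Gen := q ++ (pw X 6 ++ (q ++ pw X 9))

theorem comm_eq : wd q * wd X ^ 6 * (wd q)⁻¹ * (wd X ^ 6)⁻¹ = wd cw := by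
  rw [q_inv, X6_inv, ← wd_pw, ← wd_pw]
  unfold cw
  simp only [wd_append, mul_assoc]

theorem kill {K : Type*} [Group K] (h : Cfsg.Spor.IsoHe K) : Kill K := by
  obtain ⟨e⟩ := h
  refine Kill.congr e.symm ?_
  refine kill_of_elt (X := wd X) (q := wd q) (r := 3) (m := 5) (i := 10) (j := 6) (k := 3) (by norm_num) (by norm_num)
    (orderOf_eq_mul (by norm_num) (by norm_num) X_pow X_pow3 X_pow5) (by norm_num) (by norm_num) (by norm_num)
    (lt_of_le_of_lt card_X (by norm_num)) ?_ ?_ (by norm_num) ?_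
  · rw [← wd_pw, ← wd_append, ← wd_append]
    exact eq_of_chkB (by decide +kernel)
  · rw [comm_eq, ← wd_pw, ← wd_nil]
    exact eq_of_chkB (by decide +kernel)
  · rw [comm_eq, ← wd_pw, ← wd_append, ← wd_append]
    exact Cfsg.Agent.KFacts.He.TwoACent.ne_of_act 31 (by decide +kernel)

end Cfsg.Agent.H54.Kill.He
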