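import Cfsg.Agent.H54.Kill.Simple
import Cfsg.Agent.H413.JOneLocal

/-!
# Kill row for `J1` (helper54): the centralizer of an involution is `2 × A₅`
-/

set_option autoImplicit false
set_option maxRecDepth 100000

namespace Cfsg.Agent.H54.Kill.J1

open Subgroup Cfsg Cfsg.Agent.H480 Cfsg.Agent.H413.JOneLocal

theorem a5_three : ∀ a b : alternatingGroup (Fin 5), a * a * a = 1 → a ≠ 1 → b * b = 1 → b ≠ 1 → a * b ≠ b * a := by
  decide +kernel

theorem a5_nc : ∃ a b : alternatingGroup (Fin 5), a * b ≠ b * a := by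
  decide +kernel

theorem kill {K : Type*} [Group K] (h : Spor.IsoJ1 K) : Kill K := by
  obtain ⟨e⟩ := h
  refine Kill.congr e.symm ?_
  obtain ⟨e'⟩ := cent_equiv
  have hsimple : IsSimpleGroup (alternatingGroup (Fin 5)) := alternatingGroup.isSimpleGroup_five
  refine kill_of_two_prod orderOf_u a5_nc e' (q := 3) (by norm_num) (by norm_num) ?_ ?_
  · rw [nat_card_alternatingGroup, Nat.card_fin]
    decide
  · intro a b ha hb
    exact a5_three a b (cube_of_order ha) (ne_one_of_order ha (by norm_num)) (sq_of_order hb)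
      (ne_one_of_order hb (by norm_num))

end Cfsg.Agent.H54.Kill.J1
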