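import Cfsg.Agent.H54.Kill.Model
import Cfsg.Agent.KFacts.J2.Basic

/-!
# Kill row for `J2` (helper54): the centralizer of a central involution is `2^(1+4)_- : A₅`
-/

set_option autoImplicit false

namespace Cfsg.Agent.H54.Kill.J2

open Cfsg Cfsg.Agent.H480

theorem kill {K : Type*} [Group K] (h : Spor.IsoJ2 K) : Kill K := by
  obtain ⟨e⟩ := h
  refine Kill.congr e.symm ?_
  obtain ⟨t, u, Q, v, ρ, D⟩ := KFacts.J2.Basic.exists_dat
  exact kill_of_model rfl D.M

end Cfsg.Agent.H54.Kill.J2
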