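import Cfsg.Agent.H54.Kill.Model
import Cfsg.Agent.OddHalf.D8.RowJ3

/-!
# Kill row for `J3` (helper54): the centralizer of an involution is `2^(1+4)_- : A₅`
-/

set_option autoImplicit false

namespace Cfsg.Agent.H54.Kill.J3

open Cfsg Cfsg.Agent.H480

theorem kill {K : Type*} [Group K] (h : Spor.IsoJ3 K) : Kill K := by
  obtain ⟨z, Q, v, ρ, M, -, -, -⟩ := OddHalf.D8.RowJ3.sheet' K h
  exact kill_of_model rfl M

end Cfsg.Agent.H54.Kill.J3
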