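import Cfsg.Agent.H54.Kill.M24
import Cfsg.Agent.H858.FixJ4
import Cfsg.Agent.J4.Classes

/-!
# Kill row for `J4` (helper54)

`J4` contains `M24`, where the centralizer of an element of order 7 is `7 × S₃`.
-/

set_option autoImplicit false

namespace Cfsg.Agent.H54.Kill.J4

open Cfsg Cfsg.Spor Cfsg.Agent.H480

theorem kill {K : Type*} [Group K] (h : Spor.IsoJ4 K) : Kill K := by
  obtain ⟨e⟩ := h
  refine Kill.congr e.symm ?_
  have hc := Cfsg.Agent.H858.FixJ4.card_J4
  have : Finite Spor.J4 := Nat.finite_of_card_ne_zero (by rw [hc]; norm_num)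
  refine M24.kill_of_hom Cfsg.Agent.J4.Pres.phi ?_ (by rw [hc]; norm_num)
  intro a b hab
  apply Cfsg.Agent.J4.Classes.psi_injective
  exact congrArg Cfsg.Agent.J4.Rep112.rho hab

end Cfsg.Agent.H54.Kill.J4
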