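import Cfsg.Agent.H54.Kill.Alt
import Cfsg.Agent.TypeM.FactsLy

/-!
# Kill row for `Ly` (helper54): the centralizer of an involution is `2 . A₁₁`
-/

set_option autoImplicit false

namespace Cfsg.Agent.H54.Kill.Ly

open Cfsg Cfsg.Agent.H480

theorem kill {K : Type*} [Group K] (h : Spor.IsoLy K) : Kill K := by
  obtain ⟨e⟩ := h
  refine Kill.congr e.symm ?_
  obtain ⟨L⟩ := TypeM.FactsLy.exists_mt_ly
  exact kill_of_cover L.orderOf_t (by norm_num) L.K L.hz (q := 11) (by norm_num) (by norm_num) (by norm_num) (by norm_num)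

end Cfsg.Agent.H54.Kill.Ly
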