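import Cfsg.Agent.H54.Kill.Fi23Words
import Cfsg.Agent.MonsterP.Equiv

/-!
# Kill row for the Monster (helper54): the subgroup `S₃ × Fi23`
-/

set_option autoImplicit false
set_option maxRecDepth 100000

namespace Cfsg.Agent.H54.Kill.M

open Subgroup Cfsg Cfsg.Agent.Bimonster
open Cfsg.Agent.SporRec.Fi23Rel (Gen IsCox adj spiderW e7W toHom toHom_gen gen)

/-- the nodes of `Y₄₃₂` in `Y₅₅₃`, commuting with the nodes `9`, `10` -/
def nd : Gen → ℕ
  | .d => 0 | .c => 11 | .b => 12 | .a => 13 | .e => 1 | .f => 2 | .g => 3 | .j => 4 | .h => 6 | .i => 7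

theorem nd_lt : ∀ g, nd g < 14 := by intro g; cases g <;> decide
theorem adj_nd : ∀ a b, adj a b = adjB (nd a) (nd b) := by intro a b; cases a <;> cases b <;> decide

section

variable {G : Type*} [Group G] {t : ℕ → G}

theorem isCox (h : PRel t) : IsCox (fun g => t (nd g)) where
  inv a := h.cox.sq _ (nd_lt a)
  comm a b hab := h.cox.cm _ (nd_lt a) _ (nd_lt b) (by rw [← adj_nd, hab])
  braid a b hab := h.cox.br _ (nd_lt a) _ (nd_lt b) (by rw [← adj_nd, hab])

theorem ev_eq (w : List Gen) : SporRec.Fi23Rel.ev (fun g => t (nd g)) w = Tits.ev t (w.map nd) := by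
  unfold SporRec.Fi23Rel.ev Tits.ev
  rw [List.map_map]
  rfl

/-- the nodes of `Y₂₃₂` -/
def n8 : Fin 8 → ℕ := ![2, 1, 0, 11, 12, 13, 6, 7]

theorem n8_lt : ∀ i, n8 i < 14 := by decide
theorem adj_n8 : ∀ i j, Fischer.Derived.adj i j = adjB (n8 i) (n8 j) := by decide
theorem n8_inj : ∀ i j, n8 i = n8 j → i = j := by decide

theorem liftable (h : PRel t) : Fischer.Derived.M8.IsLiftable (fun i => t (n8 i)) := by
  intro i j
  rw [Fischer.Derived.M8_apply]
  have h1 := isCox h
  unfold Fischer.Derived.lab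
  have si := h.cox.sq _ (n8_lt i)
  have sj := h.cox.sq _ (n8_lt j)
  split_ifs with h2 h3
  · subst h2
    rw [pow_one, si]
  · have hb := h.cox.br _ (n8_lt i) _ (n8_lt j) (by rw [← adj_n8, h3])
    calc (t (n8 i) * t (n8 j)) ^ 3 = (t (n8 i) * t (n8 j) * t (n8 i)) * (t (n8 j) * t (n8 i) * t (n8 j)) := by
          simp only [pow_succ, pow_zero, one_mul, mul_assoc]
      _ = (t (n8 j) * t (n8 i) * t (n8 j)) * (t (n8 j) * t (n8 i) * t (n8 j)) := by rw [hb]
      _ = t (n8 j) * t (n8 i) * (t (n8 j) * t (n8 j)) * t (n8 i) * t (n8 j) := by simp only [mul_assoc]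
      _ = t (n8 j) * (t (n8 i) * t (n8 i)) * t (n8 j) := by rw [sj, mul_one]; simp only [mul_assoc]
      _ = 1 := by rw [si, mul_one, sj]
  · have hc := h.cox.cm _ (n8_lt i) _ (n8_lt j) (by rw [← adj_n8]; simpa using h3)
    calc (t (n8 i) * t (n8 j)) ^ 2 = (t (n8 i) * t (n8 j)) * (t (n8 i) * t (n8 j)) := pow_two _
      _ = (t (n8 j) * t (n8 i)) * (t (n8 i) * t (n8 j)) := by rw [hc]
      _ = t (n8 j) * (t (n8 i) * t (n8 i)) * t (n8 j) := by simp only [mul_assoc]
      _ = 1 := by rw [si, mul_one, sj]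

theorem chk_e7 : Fischer.Derived.chk (Fischer.Derived.rep 9 [2, 3, 1, 6, 4, 0, 5])
    (Fischer.Derived.rep 9 [5, 4, 3, 2, 1, 0, 6]) = true := by decide +kernel

theorem spider (h : PRel t) : SporRec.Fi23Rel.ev (fun g => t (nd g)) spiderW ^ 10 = 1 := by
  have h1 := h.spider
  rw [ev_eq]
  have e : Tits.ev t (spiderW.map nd) = Tits.ev t [0, 11, 12] * Tits.ev t spW * (Tits.ev t [0, 11, 12])⁻¹ := by
    have e1 : Tits.ev t (spiderW.map nd) = Tits.ev t [0, 11, 12] * Tits.ev t [0, 1, 2, 0, 6, 7] := by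
      unfold Tits.ev
      rw [← List.prod_append, ← List.map_append]
      rfl
    have e2 : Tits.ev t spW = Tits.ev t [0, 1, 2, 0, 6, 7] * Tits.ev t [0, 11, 12] := by
      unfold Tits.ev
      rw [← List.prod_append, ← List.map_append]
      rfl
    rw [e1, e2, ← mul_assoc, mul_inv_cancel_right]
  rw [e, conj_pow, h1, mul_one, mul_inv_cancel]

theorem e7 (h : PRel t) : SporRec.Fi23Rel.ev (fun g => t (nd g)) e7W ^ 9 = 1 := by
  have h1 := Fischer.Derived.ev_eq_ev (liftable h) chk_e7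
  rw [Fischer.Derived.ev_rep, Fischer.Derived.ev_rep] at h1
  have h2 : Fischer.Derived.ev (fun i => t (n8 i)) [2, 3, 1, 6, 4, 0, 5] = Tits.ev t f3a := rfl
  have h3 : Fischer.Derived.ev (fun i => t (n8 i)) [5, 4, 3, 2, 1, 0, 6] = Tits.ev t (e7W.map nd) := rfl
  rw [h2, h3, h.f3a] at h1
  rw [ev_eq, ← h1]

/-- if one node is trivial all are -/
theorem all_one {s : ℕ → G} (h : CoxRel 14 s) (h0 : s 0 = 1) : ∀ i < 14, s i = 1 := by
  have key : ∀ {i j : ℕ}, i < 14 → j < 14 → adjB i j = true → s i = 1 → s j = 1 := by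
    intro i j hi hj hij hs
    have h1 := h.br i hi j hj hij
    rw [hs, one_mul, mul_one, h.sq j hj] at h1
    exact h1
  have hpar : ∀ i < 14, i ≠ 0 → adjB (par i) i = true ∧ par i < i := by decide
  intro i
  induction i using Nat.strong_induction_on with
  | _ i ih =>
    intro hi
    by_cases h1 : i = 0
    · rw [h1, h0]
    · obtain ⟨h2, h3⟩ := hpar i hi h1
      exact key (h3.trans hi) hi h2 (ih _ h3 (h3.trans hi))

end

theorem xM_ne : xM 0 ≠ 1 := by
  intro h
  have h1 := all_one xM_prel.cox h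
  have h2 : Subgroup.closure (nodes 14 xM) = ⊥ := by
    rw [Subgroup.closure_eq_bot_iff]
    rintro _ ⟨i, hi, rfl⟩
    exact h1 i hi
  rw [xM_gen] at h2
  have hs := MonsterP.Equiv.simple
  exact absurd h2 top_ne_bot

theorem comm_word {w : List Gen} {k : ℕ} (hk : k < 14) (h : ∀ g, adjB (nd g) k = false) :
    SporRec.Fi23Rel.ev (fun g => xM (nd g)) w * xM k = xM k * SporRec.Fi23Rel.ev (fun g => xM (nd g)) w := by
  induction w with
  | nil => simp [SporRec.Fi23Rel.ev]
  | cons y w ih =>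
    rw [SporRec.Fi23Rel.ev_cons, mul_assoc, ih, ← mul_assoc, xM_prel.cox.cm _ (nd_lt y) k hk (h y), mul_assoc]

/-- the homomorphism from `Fi23` -/
noncomputable def hom : Cfsg.Spor.Fi23 →* PM := toHom (isCox xM_prel) (spider xM_prel) (e7 xM_prel)

theorem hom_gen (g : Gen) : hom (gen g) = xM (nd g) := toHom_gen _ _ _ g

theorem hom_ev (w : List Gen) : hom (SporRec.Fi23Rel.ev gen w) = SporRec.Fi23Rel.ev (fun g => xM (nd g)) w := by
  unfold SporRec.Fi23Rel.ev
  rw [map_list_prod, List.map_map]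
  congr 1
  refine List.map_congr_left fun g _ => ?_
  rw [Function.comp_apply, hom_gen]

theorem hom_injective : Function.Injective hom := by
  have hs := Fischer.Fi23Simple.isFi23.1
  rcases (inferInstance : hom.ker.Normal).eq_bot_or_eq_top with h | h
  · exact (MonoidHom.ker_eq_bot_iff _).1 h
  · exfalso
    apply xM_ne
    have h1 : gen .d ∈ hom.ker := by rw [h]; exact mem_top _
    have h2 := MonoidHom.mem_ker.1 h1
    rw [hom_gen] at h2
    exact h2

theorem step {s : ℕ → PM} (h : CoxRel 14 s) {i j k : ℕ} (hi : i < 14) (hj : j < 14) (hk : k < 14) (hij : s i = s j)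
    (h1 : adjB k i = true) (h2 : adjB k j = false) : s k = s i := by
  have hb := h.br k hk i hi h1
  have hc := h.cm k hk j hj h2
  rw [← hij] at hc
  have e1 : s k * s i * s k = s i := by rw [hc, mul_assoc, h.sq k hk, mul_one]
  rw [e1, ← hc, mul_assoc, h.sq i hi, mul_one] at hb
  exact hb.symm

theorem gen_ne : gen .e ≠ gen .d := by
  intro h
  have h1 : SporRec.Fi23Perm.φ (SporRec.Fi23Rel.ev gen [.e]) 3 = SporRec.Fi23Perm.φ (SporRec.Fi23Rel.ev gen [.d]) 3 := by
    simp only [SporRec.Fi23Rel.ev_cons, SporRec.Fi23Rel.ev_nil, mul_one, h]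
  rw [Fi23.hm, Fi23.hm, ← SporRec.Fi23Perm.wperm_map, ← SporRec.Fi23Perm.wperm_map,
    ← Lib.PermNet.ptWord_eq (SporRec.Fi23Perm.wok _), ← Lib.PermNet.ptWord_eq (SporRec.Fi23Perm.wok _)] at h1
  exact Nat.ne_of_beq_eq_false (by decide +kernel) h1

theorem kill_PM : Cfsg.Agent.H480.Kill PM := by
  have hM : Nat.card PM = 808017424794512875886459904961710757005754368000000000 := MonsterP.Equiv.isM_PM.2
  have hfin : Finite PM := Nat.finite_of_card_ne_zero (by rw [hM]; norm_num)
  have hC := xM_prel.cox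
  have hb := hC.br 9 (by norm_num) 10 (by norm_num) (by decide)
  have s9 := hC.sq 9 (by norm_num)
  have s10 := hC.sq 10 (by norm_num)
  refine kill_of_invol_dvd (S := PM) (r := 17) (by norm_num) (by norm_num) ?_ (w := hom (SporRec.Fi23Rel.ev gen
    Fi23Words.w17)) (a := xM 9) (b := xM 10) ?_ ?_ ?_ s9 s10 ?_ ?_
  · rw [hM]
    norm_num
  · rw [orderOf_injective hom hom_injective]
    exact Fi23Words.seventeen
  · rw [hom_ev]
    exact comm_word (by norm_num) (by intro g; cases g <;> decide)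
  · rw [hom_ev]
    exact comm_word (by norm_num) (by intro g; cases g <;> decide)
  · calc (xM 9 * xM 10) ^ 3 = (xM 9 * xM 10 * xM 9) * (xM 10 * xM 9 * xM 10) := by
          simp only [pow_succ, pow_zero, one_mul, mul_assoc]
      _ = (xM 10 * xM 9 * xM 10) * (xM 10 * xM 9 * xM 10) := by rw [hb]
      _ = xM 10 * xM 9 * (xM 10 * xM 10) * xM 9 * xM 10 := by simp only [mul_assoc]
      _ = xM 10 * (xM 9 * xM 9) * xM 10 := by rw [s10, mul_one]; simp only [mul_assoc]
      _ = 1 := by rw [s9, mul_one, s10]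
  · intro h
    have h1 := step hC (i := 9) (j := 10) (k := 8) (by norm_num) (by norm_num) (by norm_num) h (by decide) (by decide)
    have h2 := step hC (i := 8) (j := 9) (k := 7) (by norm_num) (by norm_num) (by norm_num) h1 (by decide) (by decide)
    have h3 := step hC (i := 7) (j := 8) (k := 6) (by norm_num) (by norm_num) (by norm_num) h2 (by decide) (by decide)
    have h4 := step hC (i := 6) (j := 7) (k := 0) (by norm_num) (by norm_num) (by norm_num) h3 (by decide) (by decide)
    have h5 := step hC (i := 0) (j := 6) (k := 1) (by norm_num) (by norm_num) (by norm_num) h4 (by decide) (by decide)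
    have h6 : hom (gen .e) = hom (gen .d) := by
      rw [hom_gen, hom_gen]
      exact h5
    exact gen_ne (hom_injective h6)

theorem kill {K : Type*} [Group K] (h : Cfsg.Spor.IsoM K) : Cfsg.Agent.H480.Kill K := by
  obtain ⟨e⟩ := h
  obtain ⟨e'⟩ := Cfsg.Agent.MonsterP.Equiv.equivM
  exact kill_PM.congr (e.trans e').symm

end Cfsg.Agent.H54.Kill.M
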