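import Cfsg.Agent.H54.Kill.GolayKill
import Cfsg.Prelude.Def_Spor_Mathieu

/-!
# Kill rows for `M11` and `M12` (helper54)

The element `X` of order 6 of `M11` generates its own centralizer in `M12`.
-/

set_option autoImplicit false
set_option maxRecDepth 100000

namespace Cfsg.Agent.H54.Kill.M11M12

open Cfsg Cfsg.Spor Cfsg.Agent.H480 Cfsg.Agent.SporadicA.GolayBase Cfsg.Agent.SporadicA.GolayPerm
open Cfsg.Agent.H54.Kill.Golay Cfsg.Agent.H54.Kill.GolayCent Cfsg.Agent.H54.Kill.GolayKill
open scoped Pointwise

theorem mem_dod (p : GolayPt) : p ∈ squareDodecad ↔ (340831 : ℕ).testBit (idx p) = true := by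
  revert p
  decide +kernel

theorem M12_le : M12 ≤ M24 := inf_le_left
theorem M11_le : M11 ≤ M12 := inf_le_left

theorem inv12 : ∀ g ∈ M12, ∀ i, i < 24 → (340831 : ℕ).testBit (idx (g (pt i))) = (340831 : ℕ).testBit i := by
  intro g hg i hi
  have h1 : g • squareDodecad = squareDodecad := hg.2
  have h2 : g (pt i) ∈ squareDodecad ↔ pt i ∈ squareDodecad := by
    conv_lhs => rw [← h1]
    exact Finset.smul_mem_smul_finset_iff g
  rw [mem_dod, mem_dod, idx_pt hi] at h2
  exact Bool.eq_iff_iff.2 h2

theorem mem12 {P : ℕ} (hP : ok P = true) (h : ((List.range 24).all fun i =>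
    (340831 : ℕ).testBit (papp P i) == (340831 : ℕ).testBit i) = true) : (el P hP : Equiv.Perm GolayPt) ∈ M12 := by
  refine ⟨(el P hP).2, ?_⟩
  show (el P hP : Equiv.Perm GolayPt) • squareDodecad = squareDodecad
  apply Finset.eq_of_subset_of_card_le
  · intro p hp
    obtain ⟨p', hp', rfl⟩ := Finset.mem_smul_finset.1 hp
    have h1 := List.all_eq_true.1 h _ (List.mem_range.2 (idx_lt p'))
    rw [beq_iff_eq] at h1
    rw [mem_dod] at hp' ⊢
    rw [← hp', ← h1]
    show _ = (340831 : ℕ).testBit (papp P (idx p'))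
    rw [← idx_permOf (Bool.and_eq_true_iff.1 hP).1]
    rfl
  · rw [Finset.card_smul_finset]

theorem mem11 {P : ℕ} (hP : ok P = true) (h : ((List.range 24).all fun i =>
    (340831 : ℕ).testBit (papp P i) == (340831 : ℕ).testBit i) = true) (h0 : Nat.beq (papp P 0) 0 = true) :
    (el P hP : Equiv.Perm GolayPt) ∈ M11 := by
  refine ⟨mem12 hP h, ?_⟩
  show (el P hP : Equiv.Perm GolayPt) • (some 0 : GolayPt) = some 0
  have h1 : idx (permOf P (Bool.and_eq_true_iff.1 hP).1 (some 0)) = idx (some 0) := by
    rw [idx_permOf]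
    have e : idx (some 0 : GolayPt) = 0 := by decide
    rw [e]
    exact Nat.eq_of_beq_eq_true h0
  exact idx_injective h1

/-- order 6 -/
def X : ℕ := 983559143023509422674926022657839392
/-- `X ^ 3` -/
def Z : ℕ := 983556734225721270408659688667254880
/-- `X ^ 4` -/
def E : ℕ := 984810076680926912408264979666733568
def Q : ℕ := 422345114395246304826004863296218528
def Qi : ℕ := 429883951552889723652846660091298048
def Ei : ℕ := 984806741114253056130117747022760352
/-- the commutator -/
def W : ℕ := pcomp (pcomp Q E) (pcomp Qi Ei)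

theorem hX : ok X = true := by decide +kernel
theorem hZ : ok Z = true := by decide +kernel
theorem hE : ok E = true := by decide +kernel
theorem hQ : ok Q = true := by decide +kernel
theorem hQi : ok Qi = true := by decide +kernel
theorem hEi : ok Ei = true := by decide +kernel
theorem hW : ok W = true := by decide +kernel

/-- representatives of the cycles of `X` -/
def rs : List ℕ := [1, 5, 6, 7, 2, 21, 0, 23]
/-- the cycles of `X` -/
def T : List (ℕ × ℕ) := [(6, 0), (0, 0), (4, 0), (0, 3), (4, 1), (1, 0), (2, 0), (3, 0), (0, 5), (0, 1), (3, 2), (1, 3),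
  (2, 2), (0, 2), (1, 5), (3, 1), (0, 4), (1, 4), (2, 1), (1, 2), (1, 1), (5, 0), (5, 1), (7, 0)]

theorem hgo : go X T (test X 340831 [1, 2, 3]) (fin Z) rs [] = true := by decide +kernel

theorem kill_of_le {H : Subgroup (Equiv.Perm GolayPt)} (h1 : M11 ≤ H) (h2 : H ≤ M12) : Kill ↥H :=
  kill_sub (h2.trans M12_le) hX hZ hE hQ hEi hQi (h1 (mem11 hZ (by decide +kernel) (by decide +kernel)))
    (h1 (mem11 hE (by decide +kernel) (by decide +kernel))) (h1 (mem11 hQ (by decide +kernel) (by decide +kernel)))
    (fun g hg => inv12 g (h2 hg)) (rs := rs) (T := T) (by decide +kernel) hgo (by decide +kernel) (by decide +kernel)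
    (by decide +kernel) (by decide +kernel) (m := 3) (k := 4) (by decide) (by decide +kernel) (by decide +kernel)
    (by decide +kernel) (by decide +kernel) (by norm_num) hW (by decide +kernel) (by decide +kernel) (by decide +kernel)

theorem kill11 {K : Type*} [Group K] (h : Spor.IsoM11 K) : Kill K := by
  obtain ⟨e⟩ := h
  exact Kill.congr e.symm (kill_of_le le_rfl M11_le)

theorem kill12 {K : Type*} [Group K] (h : Spor.IsoM12 K) : Kill K := by
  obtain ⟨e⟩ := h
  exact Kill.congr e.symm (kill_of_le M11_le le_rfl)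

end Cfsg.Agent.H54.Kill.M11M12
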