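import Cfsg.Agent.H54.Kill.GolayKill
import Cfsg.Prelude.Def_Spor_Mathieu

/-!
# Kill row for `M23` (helper54)

The element `X` of order 14 generates its own centralizer.
-/

set_option autoImplicit false
set_option maxRecDepth 100000

namespace Cfsg.Agent.H54.Kill.M23

open Cfsg Cfsg.Agent.H480 Cfsg.Agent.SporadicA.GolayBase Cfsg.Agent.SporadicA.GolayPerm
open Cfsg.Agent.H54.Kill.Golay Cfsg.Agent.H54.Kill.GolayCent Cfsg.Agent.H54.Kill.GolayKill

theorem M23_le : Spor.M23 ≤ M24 := inf_le_left

theorem inv23 : ∀ g ∈ Spor.M23, ∀ i, i < 24 → (8388608 : ℕ).testBit (idx (g (pt i))) = (8388608 : ℕ).testBit i := by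
  intro g hg i hi
  have h1 : g none = none := hg.2
  have hn : ∀ j < 24, ((8388608 : ℕ).testBit j = true ↔ j = 23) := by decide
  have h2 : idx (g (pt i)) = 23 ↔ i = 23 := by
    have e : idx (none : GolayPt) = 23 := by decide
    have e' : pt 23 = none := by decide
    constructor
    · intro h
      rw [← e, ← h1] at h
      have h3 := g.injective (idx_injective h)
      have h4 := congrArg idx h3
      rw [idx_pt hi, e] at h4
      exact h4
    · rintro rfl
      rw [e', h1, e]
  rw [Bool.eq_iff_iff, hn _ (idx_lt _), hn i hi]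
  exact h2

theorem mem23 {P : ℕ} (hP : ok P = true) (h0 : Nat.beq (papp P 23) 23 = true) :
    (el P hP : Equiv.Perm GolayPt) ∈ Spor.M23 := by
  refine ⟨(el P hP).2, ?_⟩
  show (el P hP : Equiv.Perm GolayPt) • (none : GolayPt) = none
  have h1 : idx (permOf P (Bool.and_eq_true_iff.1 hP).1 none) = idx none := by
    rw [idx_permOf]
    have e : idx (none : GolayPt) = 23 := by decide
    rw [e]
    exact Nat.eq_of_beq_eq_true h0
  exact idx_injective h1

/-- order 14 -/
def X : ℕ := 956766052368818570715470965782101362
/-- `X ^ 7` -/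
def Z : ℕ := 972324263468604255511164231271689905
/-- `X ^ 8` -/
def E : ℕ := 983092609395631058516887518763552837
def Q : ℕ := 971430625502754030934200606912513105
def Ei : ℕ := 962786079524202664329437185852442023
/-- the commutator -/
def W : ℕ := pcomp (pcomp Q E) (pcomp Q Ei)

theorem hX : ok X = true := by decide +kernel
theorem hZ : ok Z = true := by decide +kernel
theorem hE : ok E = true := by decide +kernel
theorem hQ : ok Q = true := by decide +kernel
theorem hEi : ok Ei = true := by decide +kernel
theorem hW : ok W = true := by decide +kernel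

/-- representatives of the cycles of `X` -/
def rs : List ℕ := [0, 3, 6, 23]
/-- the cycles of `X` -/
def T : List (ℕ × ℕ) := [(0, 0), (0, 3), (0, 11), (1, 0), (0, 5), (0, 8), (2, 0), (0, 6), (1, 1), (1, 2), (1, 4), (0, 4),
  (0, 13), (0, 9), (2, 1), (0, 12), (1, 5), (0, 7), (0, 1), (1, 3), (1, 6), (0, 10), (0, 2), (3, 0)]

theorem hgo : go X T (test X 8388608 [1, 2, 7]) (fin Z) rs [] = true := by decide +kernel

theorem kill {K : Type*} [Group K] (h : Spor.IsoM23 K) : Kill K := by
  obtain ⟨e⟩ := h
  refine Kill.congr e.symm ?_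
  exact kill_sub M23_le hX hZ hE hQ hEi hQ (mem23 hZ (by decide +kernel)) (mem23 hE (by decide +kernel))
    (mem23 hQ (by decide +kernel)) inv23 (rs := rs) (T := T) (by decide +kernel) hgo (by decide +kernel)
    (by decide +kernel) (by decide +kernel) (by decide +kernel) (m := 7) (k := 4) (by decide) (by decide +kernel)
    (by decide +kernel) (by decide +kernel) (by decide +kernel) (by norm_num) hW (by decide +kernel) (by decide +kernel)
    (by decide +kernel)

end Cfsg.Agent.H54.Kill.M23
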