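import Cfsg.Agent.H54.Kill.Base
import Cfsg.Agent.H54.Kill.Golay
import Cfsg.Agent.SporadicA.M24Trans
import Cfsg.Prelude.Def_Spor_Mathieu

/-!
# Kill row for `M24` (helper54)

The centralizer of an element of order 7 is `7 × S₃`.
-/

set_option autoImplicit false

namespace Cfsg.Agent.H54.Kill.M24

open Cfsg Cfsg.Spor Cfsg.Agent.H480 Cfsg.Agent.H54.Kill.Golay

theorem z_ok : ok 926466380309882574397442521365323828 = true := by decide +kernel
theorem a_ok : ok 601764145483765446852708331748920352 = true := by decide +kernel
theorem b_ok : ok 984813156490408329070235340691846543 = true := by decide +kernel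

/-- the element of order 7 -/
noncomputable def z : M24 := el _ z_ok
/-- the first involution -/
noncomputable def a : M24 := el _ a_ok
/-- the second involution -/
noncomputable def b : M24 := el _ b_ok

theorem z_pow : z ^ 7 = 1 := pow_of z_ok 7 (by decide +kernel)
theorem z_ne : z ≠ 1 := ne_one_of z_ok (by decide +kernel)
theorem a_sq : a * a = 1 := by rw [← pow_two]; exact pow_of a_ok 2 (by decide +kernel)
theorem b_sq : b * b = 1 := by rw [← pow_two]; exact pow_of b_ok 2 (by decide +kernel)
theorem za : z * a = a * z := comm_of z_ok a_ok (by decide +kernel)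
theorem zb : z * b = b * z := comm_of z_ok b_ok (by decide +kernel)
theorem ab : (a * b) ^ 3 = 1 := mul_pow_three a_ok b_ok (by decide +kernel)
theorem ab_ne : a ≠ b := ne_of a_ok b_ok (by decide +kernel)

theorem z_order : orderOf z = 7 := by
  have : Fact (Nat.Prime 7) := ⟨by norm_num⟩
  exact orderOf_eq_prime z_pow z_ne

/-- transport to a group containing `M24` whose order is not divisible by `49` -/
theorem kill_of_hom {S : Type*} [Group S] [Finite S] (f : M24 →* S) (hf : Function.Injective f)
    (h : ¬ 7 * 7 ∣ Nat.card S) : Kill S := by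
  refine kill_of_invol (r := 7) (by norm_num) (by norm_num) h (z := f z) (a := f a) (b := f b) ?_ ?_ ?_ ?_ ?_ ?_ ?_
  · rw [orderOf_injective f hf, z_order]
  · rw [← map_mul, ← map_mul, za]
  · rw [← map_mul, ← map_mul, zb]
  · rw [← map_mul, ← map_one f, a_sq]
  · rw [← map_mul, ← map_one f, b_sq]
  · rw [← map_mul, ← map_pow, ← map_one f, ab]
  · exact fun h => ab_ne (hf h)

theorem kill {K : Type*} [Group K] (h : Spor.IsoM24 K) : Kill K := by
  obtain ⟨e⟩ := h
  refine Kill.congr e.symm ?_
  exact kill_of_hom (MonoidHom.id _) (fun _ _ h => h) (by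
    rw [SporadicA.M24Trans.card_M24]
    norm_num)

end Cfsg.Agent.H54.Kill.M24
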