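import Cfsg.Agent.H54.Kill.Alt
import Cfsg.Agent.TypeM.FactsMcL

/-!
# Kill row for `McL` (helper54): the centralizer of an involution is `2 . A₈`
-/

set_option autoImplicit false

namespace Cfsg.Agent.H54.Kill.McL

open Cfsg Cfsg.Agent.H480

theorem kill {K : Type*} [Group K] (h : Spor.IsoMcL K) : Kill K := by
  obtain ⟨-, -, -, ⟨L⟩⟩ := TypeM.FactsMcL.facts h
  exact kill_of_cover L.orderOf_t (by norm_num) L.K L.hz (q := 7) (by norm_num) (by norm_num) (by norm_num) (by norm_num)

end Cfsg.Agent.H54.Kill.McL
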