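import Cfsg.Agent.H54.Kill.Simple
import Cfsg.Agent.J2Type.SPFacts

/-!
# Kill criterion for centralizers of involutions of shape `2^(1+4)_- : A₅` (helper54)
-/

set_option autoImplicit false

namespace Cfsg.Agent.H54.Kill

open Subgroup Cfsg.Agent.H480 Cfsg.Agent.J2Type.Model Cfsg.Agent.J2Type.SPFacts

theorem T5_sq : ∀ g ∈ T5, g * g = 1 → g = 1 := by decide +kernel
theorem g5_E : Equiv.Perm.sign g5.σ = 1 ∧ ∑ i, g5.s i = 0 := by decide +kernel
theorem g5_pow : g5 ^ 5 = 1 := by decide +kernel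
theorem g5_σ : g5.σ 0 = 1 ∧ g5.σ 1 = 2 := by decide +kernel

theorem kill_of_model {K : Type*} [Group K] {z : K} {Q : Subgroup (centralizer ({z} : Set K))}
    {Z : centralizer ({z} : Set K)} (hZ : (Z : K) = z) {v : Fin 5 → centralizer ({z} : Set K)}
    {ρ : centralizer ({z} : Set K) →* SP} (M : IsModel Q Z v ρ) : Kill K := by
  have hz2 : z * z = 1 := by rw [← hZ]; exact congrArg Subtype.val M.z_sq
  have hz1 : z ≠ 1 := by
    intro h
    apply M.z_ne
    apply Subtype.ext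
    rw [hZ, h]
    rfl
  have hzo : orderOf z = 2 := orderOf_eq_prime (by rw [pow_two]; exact hz2) hz1
  obtain ⟨c, hc⟩ := (M.range g5).2 g5_E
  have hc5 : c ^ 5 = 1 ∨ c ^ 5 = Z := (M.ker _).1 (by rw [map_pow, hc, g5_pow])
  -- the element of order 5
  set d : centralizer ({z} : Set K) := c ^ 6 with hd
  have hρd : ρ d = g5 := by
    rw [hd, map_pow, hc, pow_succ, g5_pow, one_mul]
  have hd5 : d ^ 5 = 1 := by
    rw [hd, ← pow_mul, show 6 * 5 = 5 * 6 from rfl, pow_mul]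
    rcases hc5 with h | h
    · rw [h, one_pow]
    · rw [h, show (6 : ℕ) = 2 * 3 from rfl, pow_mul, pow_two, M.z_sq, one_pow]
  have hd5' : (d : K) ^ 5 = 1 := congrArg Subtype.val hd5
  have hdodd : Odd (orderOf (d : K)) :=
    Odd.of_dvd_nat (by decide) (orderOf_dvd_of_pow_eq_one hd5')
  have hzd : z * (d : K) = d * z := (mem_centralizer_singleton_iff.1 d.2).symm
  have hdd : (⟨(d : K), mem_centralizer_singleton_iff.2 hzd.symm⟩ : centralizer ({z} : Set K)) = d := rfl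
  refine Kill.of_elem hzo hdodd hzd ρ ?_ ?_ ?_
  · intro x hx _ _
    rcases (M.ker x).1 hx with h | h
    · left; rw [h]; rfl
    · right; rw [h, hZ]
  · intro b hb hb2 hbd
    rw [hdd, hρd] at hbd
    obtain ⟨h1, h2⟩ := (M.range b).1 hb
    exact T5_sq b (cent_g5 b h1 h2 hbd) hb2
  · -- the commutator with `v 0`
    have hdv : ∀ i, d * v i * d⁻¹ = v (g5.σ i) ∨ d * v i * d⁻¹ = Z * v (g5.σ i) := by
      intro i
      have h := M.conj d i
      rw [hρd] at h
      rcases zmod2_cases (g5.s i) with h1 | h1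
      · left; rw [h, h1, zp_zero, one_mul]
      · right; rw [h, h1, zp_one]
    have hvi : ∀ i, (v i)⁻¹ = v i := fun i => inv_eq_of_mul_eq_one_left (M.v_sq i)
    have hZi : Z⁻¹ = Z := inv_eq_of_mul_eq_one_left M.z_sq
    -- `w = [v 0, d] = ± v 0 * v 1`
    have hw : v 0 * d * (v 0)⁻¹ * d⁻¹ = v 0 * v 1 ∨ v 0 * d * (v 0)⁻¹ * d⁻¹ = Z * (v 0 * v 1) := by
      have h0 : v 0 * d * (v 0)⁻¹ * d⁻¹ = v 0 * (d * v 0 * d⁻¹) := by rw [hvi]; simp only [mul_assoc]
      rw [h0]
      rcases hdv 0 with h | h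
      · left; rw [h, g5_σ.1]
      · right
        rw [h, g5_σ.1, ← mul_assoc, ← mul_assoc, M.z_comm]
    have hw4 : (v 0 * d * (v 0)⁻¹ * d⁻¹) ^ 4 = 1 := by
      have h2 : (v 0 * v 1) * (v 0 * v 1) = Z := by
        rw [M.v_anti 0 1 (by decide)]
        calc Z * (v 1 * v 0) * (Z * (v 1 * v 0)) = Z * (v 1 * v 0) * (v 0 * v 1) := by
              rw [← M.v_anti 0 1 (by decide)]
          _ = Z * (v 1 * (v 0 * v 0) * v 1) := by simp only [mul_assoc]
          _ = Z := by rw [M.v_sq, mul_one, M.v_sq, mul_one]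
      have h3 : (Z * (v 0 * v 1)) * (Z * (v 0 * v 1)) = Z := by
        calc (Z * (v 0 * v 1)) * (Z * (v 0 * v 1)) = Z * ((v 0 * v 1) * Z) * (v 0 * v 1) := by
              simp only [mul_assoc]
          _ = Z * (Z * (v 0 * v 1)) * (v 0 * v 1) := by rw [M.z_comm (v 0 * v 1)]
          _ = (Z * Z) * ((v 0 * v 1) * (v 0 * v 1)) := by simp only [mul_assoc]
          _ = Z := by rw [M.z_sq, one_mul, h2]
      have h4 : (v 0 * d * (v 0)⁻¹ * d⁻¹) ^ 2 = Z := by
        rw [pow_two]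
        rcases hw with h | h <;> rw [h]
        · exact h2
        · exact h3
      have h5 : ∀ x : centralizer ({z} : Set K), x ^ 4 = (x ^ 2) ^ 2 := fun x => by rw [← pow_mul]
      rw [h5, h4, pow_two, M.z_sq]
    refine not_nilpotent_of_commutator (q := (v 0 : K)) (v 0).2 ?_ ?_
    · have h1 : ((v 0 : K) * d * (v 0 : K)⁻¹ * (d : K)⁻¹) ^ 4 = 1 := congrArg Subtype.val hw4
      refine Nat.Coprime.coprime_dvd_left (orderOf_dvd_of_pow_eq_one h1) ?_
      exact Nat.Coprime.coprime_dvd_right (orderOf_dvd_of_pow_eq_one hd5') (by norm_num)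
    · intro hcom
      have hcom' : (v 0 * d * (v 0)⁻¹ * d⁻¹) * d = d * (v 0 * d * (v 0)⁻¹ * d⁻¹) := Subtype.ext hcom
      have h1 : d * (v 0 * v 1) * d⁻¹ = v 0 * v 1 := by
        have h2 : d * (v 0 * d * (v 0)⁻¹ * d⁻¹) * d⁻¹ = v 0 * d * (v 0)⁻¹ * d⁻¹ := by
          rw [← hcom']; group
        rcases hw with h | h
        · rwa [h] at h2
        · rw [h] at h2
          have h3 : d * (Z * (v 0 * v 1)) * d⁻¹ = Z * (d * (v 0 * v 1) * d⁻¹) := by
            rw [← mul_assoc d Z, M.z_comm d]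
            simp only [mul_assoc]
          rw [h3] at h2
          exact mul_left_cancel h2
      have h2 : d * (v 0 * v 1) * d⁻¹ = (d * v 0 * d⁻¹) * (d * v 1 * d⁻¹) := by group
      rw [h2] at h1
      have h3 : ∃ a, (d * v 0 * d⁻¹) * (d * v 1 * d⁻¹) = zp Z a * (v 1 * v 2) := by
        have e0 : g5.σ 0 = 1 := g5_σ.1
        have e1 : g5.σ 1 = 2 := g5_σ.2
        rcases hdv 0 with h | h <;> rcases hdv 1 with h' | h' <;> rw [h, h', e0, e1]
        · exact ⟨0, by rw [zp_zero, one_mul]⟩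
        · exact ⟨1, by rw [zp_one, ← mul_assoc, M.z_comm, mul_assoc]⟩
        · exact ⟨1, by rw [zp_one, mul_assoc]⟩
        · refine ⟨0, ?_⟩
          rw [zp_zero, one_mul, mul_assoc, ← mul_assoc (v 1) Z, M.z_comm (v 1), mul_assoc, ← mul_assoc Z Z, M.z_sq,
            one_mul]
      obtain ⟨a, h3⟩ := h3
      rw [h3, M.v_anti 1 2 (by decide)] at h1
      -- `zp a * (z * (v 2 * v 1)) = v 0 * v 1`
      have h4 : zp Z (a + 1) * v 2 = v 0 := by
        rw [zp_add Z M.z_sq, zp_one]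
        apply mul_right_cancel (b := v 1)
        rw [← h1]
        simp only [mul_assoc]
      have h5 := M.v_inj (a + 1) 0 2 0 (by rw [h4, zp_zero, one_mul])
      exact absurd h5.2 (by decide)

end Cfsg.Agent.H54.Kill
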