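import Cfsg.Agent.H480.Kill

/-!
# The conjugates of an element generate a group that is not nilpotent: homomorphic images (helper54)
-/

set_option autoImplicit false

namespace Cfsg.Agent.H54.Kill

open Subgroup Cfsg.Agent.H480

/-- `φ : C → X` surjective, `X` without nontrivial nilpotent normal subgroups, `φ d ≠ 1`. -/
theorem not_nilpotent_of_hom {S : Type*} [Group S] {C : Subgroup S} {X : Type*} [Group X] (φ : ↥C →* X)
    (hφ : Function.Surjective φ) {d : S} (hd : d ∈ C) (hd1 : φ ⟨d, hd⟩ ≠ 1)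
    (hN : ∀ N : Subgroup X, N.Normal → N ≠ ⊥ → ¬ Group.IsNilpotent ↥N) : ¬ Group.IsNilpotent ↥(closure (cjs C d)) := by
  intro hn
  set D : Subgroup S := closure (cjs C d) with hD
  have hDC : D ≤ C := by
    rw [hD, closure_le]
    rintro _ ⟨m, hm, rfl⟩
    exact mul_mem (mul_mem hm hd) (inv_mem hm)
  have hN1 := hN ((D.subgroupOf C).map φ) ?_ ?_
  · refine hN1 ?_
    have h1 : Group.IsNilpotent ↥(D.subgroupOf C) :=
      Group.nilpotent_of_mulEquiv (_h := hn) (subgroupOfEquivOfLe hDC).symm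
    exact Group.nilpotent_of_surjective (h := h1) (φ.subgroupMap (D.subgroupOf C))
      (φ.subgroupMap_surjective (D.subgroupOf C))
  · refine ⟨?_⟩
    rintro _ ⟨x, hx, rfl⟩ g
    obtain ⟨y, rfl⟩ := hφ g
    refine ⟨y * x * y⁻¹, ?_, by simp⟩
    have h2 : ∀ x ∈ D, ∀ y ∈ C, y * x * y⁻¹ ∈ D := by
      intro x hx y hy
      have h3 : D ≤ D.comap (MulAut.conj y).toMonoidHom := by
        conv_lhs => rw [hD]
        rw [closure_le]
        rintro _ ⟨m, hm, rfl⟩
        refine subset_closure ⟨y * m, mul_mem hy hm, ?_⟩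
        simp [mul_assoc]
      have h4 := h3 hx
      simpa using h4
    exact h2 x hx y y.2
  · intro hb
    have h2 : φ ⟨d, hd⟩ ∈ (D.subgroupOf C).map φ := ⟨⟨d, hd⟩, subset_closure (mem_cjs_self _ _), rfl⟩
    rw [hb, mem_bot] at h2
    exact hd1 h2

/-- simple groups of composite order have no nontrivial nilpotent normal subgroups -/
theorem not_nilpotent_of_simple_pair {X : Type*} [Group X] [IsSimpleGroup X] {a b : X} (h : a * b ≠ b * a) :
    ∀ N : Subgroup X, N.Normal → N ≠ ⊥ → ¬ Group.IsNilpotent ↥N := by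
  intro N hN hb hn
  have hN' : N = ⊤ := (hN.eq_bot_or_eq_top).resolve_left hb
  subst hN'
  have hX : Group.IsNilpotent X := Group.nilpotent_of_mulEquiv (_h := hn) (Subgroup.topEquiv : (⊤ : Subgroup X) ≃* X)
  have h1 : center X ≠ ⊥ := by
    have := Group.IsNilpotent.center_ne_bot (G := X)
    exact this
  have h2 : center X = ⊤ := ((inferInstance : (center X).Normal).eq_bot_or_eq_top).resolve_left h1
  have h3 : a ∈ center X := by rw [h2]; exact mem_top a
  exact h ((mem_center_iff.1 h3 b).symm)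

end Cfsg.Agent.H54.Kill
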