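import Cfsg.Agent.H54.Kill.Base
import Cfsg.Agent.SuzThree.Basic

/-!
# Kill row for `Suz` (helper54)

`z = b c f g` of order 7 commutes with the involution `e` and with an element `d` of order 3.
-/

set_option autoImplicit false
set_option maxRecDepth 100000

namespace Cfsg.Agent.H54.Kill.Suz

open Cfsg.Agent.Lib.PermNet Cfsg.Agent.Lib.PermNetOrbit Cfsg.Agent.SporadicRecognition.SuzPhi
  Cfsg.Agent.SporadicRecognition.SuzBound Cfsg.Agent.SporadicRecognition.SuzOrder
  Cfsg.Agent.SuzThree.Basic
open Cfsg.Spor (Suz)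
open Cfsg.Spor.Suz (Gen)

def z : List Gen := [.b, .c, .f, .g]
def d : List Gen := [.a, .b, .a, .b, .c, .b, .a, .d, .c, .b, .a, .b, .c, .d, .c, .d, .b, .c, .d]

/-- equality of words -/
theorem eqw {u v : List Gen} (h : checkEq 11 (wd u) (wd v) = true) : el u = el v := eq_of_reps (Rep.el u) (Rep.el v) h

theorem ne_one {u : List Gen} (p q : ℕ) (hpq : p ≠ q) (h : mv (wd u) p q = true) : el u ≠ 1 := by
  intro h1
  have h2 := (Rep.el u).pt h
  rw [h1, map_one] at h2
  exact hpq h2

theorem order_z : orderOf (el z) = 7 := by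
  have h7 : Fact (Nat.Prime 7) := ⟨by norm_num⟩
  refine orderOf_eq_prime ?_ (ne_one 0 2 (by norm_num) (by decide +kernel))
  have h := eqw (u := z ++ (z ++ (z ++ (z ++ (z ++ (z ++ z)))))) (v := []) (by decide +kernel)
  simp only [el_append, el_nil] at h
  rw [← h]
  simp only [pow_succ, pow_zero, one_mul, mul_assoc]

theorem order_d : orderOf (el d) = 3 := by
  have h3 : Fact (Nat.Prime 3) := ⟨by norm_num⟩
  refine orderOf_eq_prime ?_ (ne_one 14 963 (by norm_num) (by decide +kernel))
  have h := eqw (u := d ++ (d ++ d)) (v := []) (by decide +kernel)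
  simp only [el_append, el_nil] at h
  rw [← h]
  simp only [pow_succ, pow_zero, one_mul, mul_assoc]

/-- the word of the commutator -/
def c : List Gen := [.e] ++ (d ++ ([.e] ++ d.reverse))

theorem comm_eq : el [.e] * el d * (el [.e])⁻¹ * (el d)⁻¹ = el c := by
  have h : (el [.e])⁻¹ = el [.e] := (el_reverse [.e]).symm
  rw [h, ← el_reverse, c]
  simp only [el_append, mul_assoc]

theorem finite_Suz : Finite Suz := Nat.finite_of_card_ne_zero (by rw [card_Suz]; norm_num)

theorem kill_model : Cfsg.Agent.H480.Kill Suz := by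
  have hf := finite_Suz
  refine kill_of_sylow (r := 7) (z := el z) (d := el d) (q := el [.e]) (by norm_num) ?_ order_z
    (by rw [order_d]; norm_num) ?_ ?_ ?_ ?_
  · rw [card_Suz]
    norm_num
  · rw [← el_append, ← el_append]
    exact eqw (by decide +kernel)
  · rw [← el_append, ← el_append]
    exact eqw (by decide +kernel)
  · rw [comm_eq, order_d]
    have h1 : el c ^ 2 = 1 := by
      rw [pow_two, ← el_append]
      exact eqw (v := []) (by decide +kernel)
    exact Nat.Coprime.coprime_dvd_left (orderOf_dvd_of_pow_eq_one h1) (by norm_num)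
  · rw [comm_eq]
    intro h
    apply ne_one (u := c ++ (d ++ (c.reverse ++ d.reverse))) 8 963 (by norm_num) (by decide +kernel)
    rw [el_append, el_append, el_append, el_reverse, el_reverse, ← mul_assoc, h]
    group

theorem kill {K : Type*} [Group K] (h : Cfsg.Spor.IsoSuz K) : Cfsg.Agent.H480.Kill K := by
  obtain ⟨e⟩ := h
  exact kill_model.congr e.symm

end Cfsg.Agent.H54.Kill.Suz
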