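import Cfsg.Agent.H54.Kill.NilHom
import Cfsg.Agent.CpAutTh.Local
import Cfsg.Agent.KFacts.Th.Main

/-!
# Kill row for `Th` (helper54)

`a = γ 1` is the only involution of `C(a) ∩ C(x)`, `x = X5` of order 5; `C(a) / O_2 = A9`.
-/

set_option autoImplicit false
set_option maxRecDepth 100000

namespace Cfsg.Agent.H54.Kill.Th

open Subgroup Cfsg Cfsg.Agent.H480
open Cfsg.Agent.Th.Base Cfsg.Agent.Th.Word Cfsg.Agent.Th.RelWords Cfsg.Agent.Th.PermTab
  Cfsg.Agent.Th.KOracle Cfsg.Agent.Th.KPerm Cfsg.Agent.Th.NineAct Cfsg.Agent.Th.CStruct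
open Cfsg.Agent.KFacts.Th.Mask Cfsg.Agent.KFacts.Th.Struct
open Cfsg.Agent.CpAutTh.Local Cfsg.Agent.CpAutTh.Data

theorem noncomm9 : ∃ a b : alternatingGroup (Fin 9), a * b ≠ b * a := by
  refine ⟨⟨Equiv.swap 0 1 * Equiv.swap 1 2, ?_⟩, ⟨Equiv.swap 1 2 * Equiv.swap 2 3, ?_⟩, ?_⟩
  · rw [Equiv.Perm.mem_alternatingGroup]
    decide
  · rw [Equiv.Perm.mem_alternatingGroup]
    decide
  · intro h
    have h1 := congrArg (fun x : alternatingGroup (Fin 9) => (x : Equiv.Perm (Fin 9)) 1) h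
    revert h1
    decide

theorem kill_ctx {G : Type} [Group G] {γ : ℕ → G} (h : Ctx γ) : Kill G := by
  have hf := h.fin
  obtain ⟨f, F⟩ := exists_epi h
  have hC := h.cent
  have ho : orderOf (ev γ X5) = 5 := by
    rw [← Subgroup.orderOf_mk (ev γ X5) (ev_mem_sub c5)]
    exact o5 h F
  have h1 : orderOf (γ 1) = 2 := orderOf_eq_prime (by rw [pow_two]; exact h.aa) h.a1
  have hzd : ev γ X5 * γ 1 = γ 1 * ev γ X5 := h.mem_C.1 (ev_mem_sub c5)
  refine Kill.of_inv (z := γ 1) (d := ev γ X5) h1 (by rw [ho]; decide) hzd.symm ?_ ?_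
  · intro x hxx hxz hxd
    by_cases hx1 : x = 1
    · exact Or.inl hx1
    · exact Or.inr (inv_five h F (orderOf_eq_prime (by rw [pow_two]; exact hxx) hx1) hxz hxd)
  · rw [hC]
    have hs : IsSimpleGroup (alternatingGroup (Fin 9)) := alternatingGroup.isSimpleGroup (by simp)
    obtain ⟨a, b, hab⟩ := noncomm9
    refine not_nilpotent_of_hom f F.surj (ev_mem_sub c5) ?_ (not_nilpotent_of_simple_pair hab)
    intro h2
    have h3 := CpAutTh.Local.ord_f h F Nat.prime_five (by norm_num) (o5 h F)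
    rw [h2] at h3
    simp at h3

theorem kill {K : Type*} [Group K] (h : Cfsg.Spor.IsoTh K) : Kill K := by
  obtain ⟨e⟩ := h
  exact (kill_ctx Cfsg.Agent.KFacts.Th.Main.ctx).congr e.symm

end Cfsg.Agent.H54.Kill.Th
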