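import Cfsg.Agent.H54.Kill.CoreOf
import Cfsg.Agent.CpAutTits.Row

/-!
# Kill row for the Tits group (helper54)

`z` a `2`-central involution, `C(z) = 2^{1+8}.5.4`, `d` of order five: `|C(d) ∩ C(z)| = 10`.
-/

set_option autoImplicit false
set_option maxRecDepth 100000

namespace Cfsg.Agent.H54.Kill.Tits

open Subgroup Cfsg Cfsg.Agent.TitsK Cfsg.Agent.CpAutTits Cfsg.Agent.CpAutTits.Ten
open Cfsg.Agent.FourTwo.Base (LL)

theorem not_sq_dvd {L : Type*} [Group L] {T : Subgroup L} [Finite ↥T] {xf z jf d : L} (F : Facts T xf z jf d) :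
    ¬ 5 * 5 ∣ Nat.card ↥(centralizer ({F.zT} : Set ↥T)) := by
  intro h
  have hp : Fact (Nat.Prime 5) := ⟨by norm_num⟩
  obtain ⟨Q, hQ⟩ := Sylow.exists_subgroup_card_pow_prime (G := ↥(centralizer ({F.zT} : Set ↥T))) 5 (n := 2)
    (by simpa [pow_two] using h)
  have hab : ∀ a b : ↥Q, a * b = b * a := by
    have := IsPGroup.commGroupOfCardEqPrimeSq (p := 5) (G := ↥Q) hQ
    intro a b
    have hc := IsPGroup.isMulCommutative_of_card_eq_prime_sq (p := 5) (G := ↥Q) hQ
    exact hc.is_comm.comm a b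
  obtain ⟨y, hy⟩ := exists_prime_orderOf_dvd_card' (G := ↥Q) 5 (by rw [hQ]; norm_num)
  have hy' : orderOf ((y : ↥(centralizer ({F.zT} : Set ↥T))) : ↥T) = 5 := by
    rw [Subgroup.orderOf_coe, Subgroup.orderOf_coe, hy]
  have hten := F.ten_z hy' (mem_centralizer_singleton_iff.1 (y : ↥(centralizer ({F.zT} : Set ↥T))).2).symm
  have hle : Q.map (centralizer ({F.zT} : Set ↥T)).subtype ≤
      centralizer ({((y : ↥(centralizer ({F.zT} : Set ↥T))) : ↥T)} : Set ↥T) ⊓ centralizer ({F.zT} : Set ↥T) := by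
    rintro _ ⟨q, hq, rfl⟩
    refine mem_inf.2 ⟨mem_centralizer_singleton_iff.2 ?_, q.2⟩
    exact congrArg (fun u : ↥Q => ((u : ↥(centralizer ({F.zT} : Set ↥T))) : ↥T)) (hab ⟨q, hq⟩ y)
  have h6 := Subgroup.card_dvd_of_le hle
  rw [hten, Nat.card_congr (Q.equivMapOfInjective _
    (centralizer ({F.zT} : Set ↥T)).subtype_injective).symm.toEquiv, hQ] at h6
  norm_num at h6

theorem card_ge : 512 ≤ Nat.card ↥(centralizer ({facts.zT} : Set ↥TT)) := by
  have hf : Finite ↥TT := Nat.finite_of_card_ne_zero (by rw [card_TT]; norm_num)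
  have hle : (QQ.subgroupOf TT) ≤ centralizer ({facts.zT} : Set ↥TT) := by
    intro q hq
    rw [mem_subgroupOf] at hq
    refine mem_centralizer_singleton_iff.2 (Subtype.ext ?_)
    have h1 := z_central (QQ_le_UT hq)
    change (q : LL) * z = z * q
    rw [mul_inv_eq_iff_eq_mul] at h1
    exact h1
  have h1 := Nat.le_of_dvd Nat.card_pos (Subgroup.card_dvd_of_le hle)
  rwa [Nat.card_congr (Subgroup.subgroupOfEquivOfLe QQ_le_TT).toEquiv, card_QQ] at h1

theorem kill_model : Cfsg.Agent.H480.Kill ↥TT := by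
  have hf : Finite ↥TT := Nat.finite_of_card_ne_zero (by rw [card_TT]; norm_num)
  refine kill_of_orders facts.order_z (p := 5) (by norm_num) (by norm_num) facts.order_x facts.comm_zx ?_
    (not_sq_dvd facts) ?_
  · rw [facts.ten_base]
    norm_num
  · rw [facts.ten_base]
    have := card_ge
    omega

theorem aux {L : Type*} [Group L] (T : Subgroup L) {K : Type*} [Group K] (h : Cfsg.Agent.H480.Kill ↥T)
    (he : Nonempty (K ≃* ↥T)) : Cfsg.Agent.H480.Kill K := by
  obtain ⟨e⟩ := he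
  exact Cfsg.Agent.H480.Kill.congr e.symm h

theorem kill {K : Type*} [Group K] (h : Cfsg.Lie.IsoTits K) : Cfsg.Agent.H480.Kill K :=
  aux TT kill_model (CpAutTits.Row.exists_equiv h)

end Cfsg.Agent.H54.Kill.Tits
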