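import Cfsg.Agent.H480.Row
import Cfsg.Agent.H545.PQ.RowTool
import Cfsg.Agent.H54.Kill.M11M12
import Cfsg.Agent.H54.Kill.M22
import Cfsg.Agent.H54.Kill.M23
import Cfsg.Agent.H54.Kill.M24
import Cfsg.Agent.H54.Kill.J1
import Cfsg.Agent.H54.Kill.J2
import Cfsg.Agent.H54.Kill.J3
import Cfsg.Agent.H54.Kill.J4
import Cfsg.Agent.H54.Kill.Co1
import Cfsg.Agent.H54.Kill.Co23
import Cfsg.Agent.H54.Kill.McL
import Cfsg.Agent.H54.Kill.HS
import Cfsg.Agent.H54.Kill.Suz
import Cfsg.Agent.H54.Kill.He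
import Cfsg.Agent.H54.Kill.Ru
import Cfsg.Agent.H54.Kill.ON
import Cfsg.Agent.H54.Kill.Ly
import Cfsg.Agent.H54.Kill.Fi22
import Cfsg.Agent.H54.Kill.Fi23
import Cfsg.Agent.H54.Kill.Fi24p
import Cfsg.Agent.H54.Kill.HN
import Cfsg.Agent.H54.Kill.Th
import Cfsg.Agent.H54.Kill.B
import Cfsg.Agent.H54.Kill.M
import Cfsg.Agent.H54.Kill.Tits
import Cfsg.Agent.S2062
import Cfsg.Agent.S2070
import Cfsg.Agent.S2071

/-!
# No nilpotent minimal cover for almost simple groups with sporadic socle (helper54, S3925, S3926)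
-/

set_option autoImplicit false

namespace Cfsg.Agent.H54.Kill

open Subgroup Cfsg Cfsg.Agent.H480

universe u v

theorem index_dvd_two_of_out {G : Type*} [Group G] [Finite G] (K : Subgroup G) [K.Normal]
    (hc : centralizer (K : Set G) = ⊥) {T : Type*} [Group T] (e : ↥K ≃* T) {n : ℕ} (hn : n ∣ 2)
    (hT : Nat.card (Out T) = n) : K.index ∣ 2 := by
  refine (H545.PQ.index_dvd_out K hc).trans ?_
  have h1 : (MulAut.conj : ↥K →* MulAut ↥K).range.index = n := by
    rw [← hT]
    have h2 : (MulAut.conj : T →* MulAut T).range =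
        (MulAut.conj : ↥K →* MulAut ↥K).range.map (MulAut.congr e).toMonoidHom := by
      ext f
      constructor
      · rintro ⟨y, rfl⟩
        refine ⟨MulAut.conj (e.symm y), ⟨_, rfl⟩, ?_⟩
        ext z
        show e (e.symm y * e.symm z * (e.symm y)⁻¹) = y * z * y⁻¹
        simp
      · rintro ⟨_, ⟨x, rfl⟩, rfl⟩
        refine ⟨e x, ?_⟩
        ext z
        show e x * z * (e x)⁻¹ = e (x * e.symm z * x⁻¹)
        simp
    have h3 : (MulAut.conj : ↥K →* MulAut ↥K).range.index = (MulAut.conj : T →* MulAut T).range.index := by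
      rw [h2]
      exact (Subgroup.index_map_of_bijective (f := (MulAut.congr e).toMonoidHom) (MulAut.congr e).bijective _).symm
    rw [h3]
    rfl
  rw [h1]
  exact hn

/-- **The sporadic groups.** -/
theorem row_sporadic {S : Type v} [Group S] (h : IsSporadicGroup S) : Row.{u} S := by
  have key : ∀ (_ : Spor.IsoM22 S ∨ Spor.IsoCo2 S ∨ Spor.IsoCo3 S), Row.{u} S := by
    intro h G _ _ K hK hs hna hc hcyc f 𝓐 hA
    rcases h with ⟨⟨e⟩⟩ | ⟨⟨e⟩⟩ | ⟨⟨e⟩⟩
    · exact not_kill3 hA K hc (index_dvd_two_of_out K hc (f.symm.trans e) (by norm_num) S2062.result)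
        (M22.kill3 ⟨f.symm.trans e⟩)
    · exact not_kill3 hA K hc (index_dvd_two_of_out K hc (f.symm.trans e) (by norm_num) S2070.result)
        (Co23.kill3_co2 ⟨f.symm.trans e⟩)
    · exact not_kill3 hA K hc (index_dvd_two_of_out K hc (f.symm.trans e) (by norm_num) S2071.result)
        (Co23.kill3_co3 ⟨f.symm.trans e⟩)
  rcases h with h | h | h | h | h | h | h | h | h | h | h | h | h | h | h | h | h | h | h | h | h | h | h | h | h | h
  · exact Row.of_kill (M11M12.kill11 h)
  · exact Row.of_kill (M11M12.kill12 h)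
  · exact key (Or.inl h)
  · exact Row.of_kill (M23.kill h)
  · exact Row.of_kill (M24.kill h)
  · exact Row.of_kill (J1.kill h)
  · exact Row.of_kill (J2.kill h)
  · exact Row.of_kill (J3.kill h)
  · exact Row.of_kill (J4.kill h)
  · exact Row.of_kill (Co1.kill h)
  · exact key (Or.inr (Or.inl h))
  · exact key (Or.inr (Or.inr h))
  · exact Row.of_kill (McL.kill h)
  · exact Row.of_kill (HS.kill h)
  · exact Row.of_kill (Suz.kill h)
  · exact Row.of_kill (He.kill h)
  · exact Row.of_kill (Ru.kill h)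
  · exact Row.of_kill (ON.kill h)
  · exact Row.of_kill (Ly.kill h)
  · exact Row.of_kill (Fi22.kill h)
  · exact Row.of_kill (Fi23.kill h)
  · exact Row.of_kill (Fi24p.kill h)
  · exact Row.of_kill (HN.kill h)
  · exact Row.of_kill (Th.kill h)
  · exact Row.of_kill (B.kill h)
  · exact Row.of_kill (M.kill h)

/-- **The Tits group.** -/
theorem row_tits {S : Type v} [Group S] (h : Lie.IsoTits S) : Row.{u} S := Row.of_kill (Tits.kill h)

end Cfsg.Agent.H54.Kill
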