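import Cfsg.Agent.H480.KillHom

/-!
# Nilpotent normal subgroups of simple groups; direct products `2 × X` (helper54)
-/

set_option autoImplicit false

namespace Cfsg.Agent.H54.Kill

open Subgroup Cfsg.Agent.H480

/-- normal subgroups of a noncommutative simple group are not nilpotent -/
theorem not_nilpotent_of_simple {X : Type*} [Group X] [IsSimpleGroup X] (hX : ∃ a b : X, a * b ≠ b * a)
    (N : Subgroup X) (hN : N.Normal) (hb : N ≠ ⊥) : ¬ Group.IsNilpotent ↥N := by
  intro hn
  have ht : N = ⊤ := hN.eq_bot_or_eq_top.resolve_left hb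
  subst ht
  have hX' : Group.IsNilpotent X := Group.nilpotent_of_mulEquiv (_h := hn) Subgroup.topEquiv
  have hc : center X = ⊤ := by
    rcases (inferInstance : (center X).Normal).eq_bot_or_eq_top with h | h
    · exfalso
      exact Group.IsNilpotent.center_ne_bot (G := X) h
    · exact h
  obtain ⟨a, b, hab⟩ := hX
  apply hab
  have h1 : b ∈ center X := by rw [hc]; exact mem_top b
  exact mem_center_iff.1 h1 a

theorem cube_of_order {X : Type*} [Group X] {a : X} (h : orderOf a = 3) : a * a * a = 1 := by
  have h1 := pow_orderOf_eq_one a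
  rw [h] at h1
  rwa [pow_succ, pow_two] at h1

theorem sq_of_order {X : Type*} [Group X] {a : X} (h : orderOf a = 2) : a * a = 1 := by
  have h1 := pow_orderOf_eq_one a
  rwa [h, pow_two] at h1

theorem ne_one_of_order {X : Type*} [Group X] {a : X} {n : ℕ} (h : orderOf a = n) (hn : n ≠ 1) : a ≠ 1 := by
  rintro rfl
  rw [orderOf_one] at h
  exact hn h.symm

theorem z2 : ∀ a b : Multiplicative (ZMod 2), a ≠ 1 → b = 1 ∨ b = a := by decide

theorem center_eq_bot {X : Type*} [Group X] [IsSimpleGroup X] (hX : ∃ a b : X, a * b ≠ b * a) : center X = ⊥ := by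
  rcases (inferInstance : (center X).Normal).eq_bot_or_eq_top with h | h
  · exact h
  · exfalso
    obtain ⟨a, b, hab⟩ := hX
    have h1 : b ∈ center X := by rw [h]; exact mem_top b
    exact hab (mem_center_iff.1 h1 a)

/-- the kernel of the projection of a direct product `2 × B`, `Z(B) = 1` -/
theorem ker_two {C B : Type*} [Group C] [Group B] (e : C ≃* Multiplicative (ZMod 2) × B) (U : C) (hU1 : U ≠ 1)
    (hc : ∀ y, y * U = U * y) (hB : center B = ⊥) (x : C) (hx : (e x).2 = 1) : x = 1 ∨ x = U := by
  have hU : (e U).2 = 1 := by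
    have h1 : (e U).2 ∈ center B := by
      rw [mem_center_iff]
      intro y
      have h2 := congrArg (fun w => (e w).2) (hc (e.symm (1, y)))
      simpa using h2
    rwa [hB, mem_bot] at h1
  have hU2 : (e U).1 ≠ 1 := by
    intro h1
    apply hU1
    apply e.injective
    rw [map_one]
    exact Prod.ext h1 hU
  rcases z2 (e U).1 (e x).1 hU2 with h1 | h1
  · left
    apply e.injective
    rw [map_one]
    exact Prod.ext h1 hx
  · right
    apply e.injective
    exact Prod.ext h1 (hx.trans hU.symm)

/-- **Kill** if the centralizer of an involution is `2 × B` -/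
theorem kill_of_two_prod {S : Type*} [Group S] {u : S} (hu : orderOf u = 2) {B : Type*} [Group B] [Finite B]
    [IsSimpleGroup B] (hX : ∃ a b : B, a * b ≠ b * a)
    (e : ↥(centralizer ({u} : Set S)) ≃* Multiplicative (ZMod 2) × B)
    {q : ℕ} (hq : q.Prime) (hq2 : q ≠ 2) (hqX : q ∣ Nat.card B)
    (hC : ∀ a b : B, orderOf a = q → orderOf b = 2 → a * b ≠ b * a) : Kill S := by
  refine Kill.of_hom hu ((MonoidHom.snd _ _).comp e.toMonoidHom) ?_ ?_ hq hq2 hqX hC
    (fun N hN hb => not_nilpotent_of_simple hX N hN hb)
  · intro x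
    refine ⟨e.symm (1, x), ?_⟩
    simp
  · intro x hx
    have h1 := ker_two e ⟨u, mem_centralizer_singleton_iff.2 rfl⟩ (by
      intro h
      have h2 : u = 1 := congrArg Subtype.val h
      rw [h2, orderOf_one] at hu
      omega) (fun y => Subtype.ext (mem_centralizer_singleton_iff.1 y.2)) (center_eq_bot hX) x (by simpa using hx)
    rcases h1 with h1 | h1
    · exact Or.inl (congrArg Subtype.val h1)
    · exact Or.inr (congrArg Subtype.val h1)

end Cfsg.Agent.H54.Kill
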