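import Cfsg.Agent.H480.Cov

/-!
# A second criterion excluding nilpotent minimal covers (helper54, S3925, S3926)

`Kill3 S`: there are a self-centralizing element `z` of odd prime order in `S` not inverted by an involution, and a
proper subgroup `H` of `S` containing `z` in which `⟨z⟩` is not normal; `|S|` is even.

`NMC.not_kill3`: no finite group `G` with a normal subgroup `S` of index `1` or `2`, `C_G(S) = 1` and `Kill3 S`
has a nilpotent minimal cover.
-/

set_option autoImplicit false

namespace Cfsg.Agent.H54.Kill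

open Subgroup Cfsg.Agent.H480

/-- the second kill condition -/
def Kill3 (S : Type*) [Group S] : Prop :=
  ∃ (r : ℕ) (z h : S) (H : Subgroup S), r.Prime ∧ r ≠ 2 ∧ orderOf z = r ∧
    (∀ x : S, x * z = z * x → x ∈ zpowers z) ∧
    (∀ x : S, x * x = 1 → x * z * x⁻¹ ∈ zpowers z → x = 1) ∧
    H ≠ ⊤ ∧ z ∈ H ∧ h ∈ H ∧ h * z * h⁻¹ ∉ zpowers z ∧ 2 ∣ Nat.card S

/-- a nontrivial normal subgroup of a nilpotent group meets the centre -/
theorem exists_mem_center {A : Type*} [Group A] (hA : Group.IsNilpotent A) (N : Subgroup A) [hN : N.Normal]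
    {w : A} (hw : w ∈ N) (hw1 : w ≠ 1) : ∃ x ∈ N, x ≠ 1 ∧ x ∈ center A := by
  have key : ∀ n : ℕ, ∀ w ∈ N, w ≠ 1 → w ∈ Subgroup.upperCentralSeries A n → ∃ x ∈ N, x ≠ 1 ∧ x ∈ center A := by
    intro n
    induction n with
    | zero =>
      intro w _ hw1 hw0
      rw [Subgroup.upperCentralSeries_zero, mem_bot] at hw0
      exact absurd hw0 hw1
    | succ n ih =>
      intro w hw hw1 hwn
      by_cases hc : w ∈ center A
      · exact ⟨w, hw, hw1, hc⟩
      · rw [mem_center_iff] at hc
        push Not at hc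
        obtain ⟨y, hy⟩ := hc
        rw [Subgroup.mem_upperCentralSeries_succ_iff] at hwn
        refine ih _ (?_ : w * y * w⁻¹ * y⁻¹ ∈ N) ?_ (hwn y)
        · have h1 := hN.conj_mem _ (N.inv_mem hw) y
          have h2 := N.mul_mem hw h1
          simpa [mul_assoc] using h2
        · intro h1
          apply hy
          rw [mul_inv_eq_one, mul_inv_eq_iff_eq_mul] at h1
          exact h1.symm
  obtain ⟨n, hn⟩ := hA.nilpotent'
  exact key n w hw hw1 (by rw [hn]; exact mem_top w)

variable {G : Type*} [Group G]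

/-- nilpotent subgroups containing `z` centralize `z` -/
theorem le_centralizer {S : Subgroup G} [hS : S.Normal] {r : ℕ} (hr : r.Prime) {z : G} (hzS : z ∈ S)
    (hz : orderOf z = r) (hc : ∀ x ∈ S, x * z = z * x → x ∈ zpowers z) {A : Subgroup G}
    (hA : Group.IsNilpotent ↥A) (hzA : z ∈ A) : ∀ a ∈ A, a * z = z * a := by
  have hz1 : z ≠ 1 := by
    rintro rfl
    rw [orderOf_one] at hz
    exact hr.one_lt.ne hz
  have hn : (S.subgroupOf A).Normal := inferInstance
  obtain ⟨x, hx, hx1, hxc⟩ := exists_mem_center hA (S.subgroupOf A) (w := ⟨z, hzA⟩)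
    (by rw [mem_subgroupOf]; exact hzS) (fun h => hz1 (congrArg Subtype.val h))
  rw [mem_subgroupOf] at hx
  rw [mem_center_iff] at hxc
  have hxz : (x : G) * z = z * x := (congrArg Subtype.val (hxc ⟨z, hzA⟩)).symm
  have hxp := hc x hx hxz
  have hx1' : (x : G) ≠ 1 := fun h => hx1 (Subtype.ext h)
  have hfr : Fact r.Prime := ⟨hr⟩
  have hzx : z ∈ zpowers (x : G) := by
    obtain ⟨k, hk⟩ := mem_zpowers_iff.1 hxp
    have h1 : orderOf (x : G) ∣ r := by
      refine orderOf_dvd_of_pow_eq_one ?_
      rw [← hk, ← zpow_natCast, ← zpow_mul, mul_comm, zpow_mul, zpow_natCast, ← hz, pow_orderOf_eq_one, one_zpow]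
    have h2 : orderOf (x : G) = r := by
      rcases (Nat.dvd_prime hr).1 h1 with h3 | h3
      · exact absurd (orderOf_eq_one_iff.1 h3) hx1'
      · exact h3
    have h5 : zpowers (x : G) = zpowers z := by
      have hf : Finite ↥(zpowers z) := by
        refine Nat.finite_of_card_ne_zero ?_
        rw [Nat.card_zpowers, hz]
        exact hr.ne_zero
      refine Subgroup.eq_of_le_of_card_ge (zpowers_le.2 hxp) ?_
      rw [Nat.card_zpowers, Nat.card_zpowers, hz, h2]
    rw [h5]
    exact mem_zpowers z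
  obtain ⟨k, hk⟩ := mem_zpowers_iff.1 hzx
  intro a ha
  rw [← hk]
  have h6 : a * x = x * a := congrArg Subtype.val (hxc ⟨a, ha⟩)
  exact ((show Commute a (x : G) from h6).zpow_right k).eq

/-- conjugation by an involution of a finite group of even order fixes an involution -/
theorem exists_involution_commuting [Finite G] {S : Subgroup G} [hS : S.Normal] (h2 : 2 ∣ Nat.card S) {t : G}
    (ht : t * t = 1) : ∃ c ∈ S, c * c = 1 ∧ c ≠ 1 ∧ c * t = t * c := by
  classical
  have : Fintype ↥S := Fintype.ofFinite _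
  have hfp : Fact (Nat.Prime 2) := ⟨Nat.prime_two⟩
  let C : Subgroup ↥S := (centralizer ({t} : Set G)).subgroupOf S
  let f : Function.End ↥S := fun x => MulAut.conjNormal t x
  have hf : f ^ 2 ^ 1 = 1 := by
    rw [pow_one, pow_two]
    funext x
    apply Subtype.ext
    change ((MulAut.conjNormal t (MulAut.conjNormal t x) : ↥S) : G) = x
    rw [MulAut.conjNormal_apply, MulAut.conjNormal_apply]
    have ht' : t⁻¹ = t := inv_eq_of_mul_eq_one_right ht
    rw [ht']
    calc t * (t * x * t) * t = (t * t) * x * (t * t) := by group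
      _ = x := by rw [ht]; group
  have h3 := Equiv.Perm.card_fixedPoints_modEq (p := 2) (n := 1) hf
  have h4 : Fintype.card (Function.fixedPoints f) = Nat.card C := by
    rw [← Nat.card_eq_fintype_card]
    refine Nat.card_congr (Equiv.subtypeEquivRight fun x => ?_)
    rw [Function.mem_fixedPoints, Function.IsFixedPt]
    change MulAut.conjNormal t x = x ↔ _
    rw [mem_subgroupOf, mem_centralizer_singleton_iff]
    rw [Subtype.ext_iff, MulAut.conjNormal_apply, mul_inv_eq_iff_eq_mul]
    exact eq_comm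
  have h5 : 2 ∣ Nat.card C := by
    rw [← h4]
    rw [← Nat.card_eq_fintype_card] at h3
    have h6 : Nat.card ↥S ≡ 0 [MOD 2] := (Nat.modEq_zero_iff_dvd).2 h2
    exact (Nat.modEq_zero_iff_dvd).1 (h3.symm.trans h6)
  obtain ⟨c, hc⟩ := exists_prime_orderOf_dvd_card' 2 h5
  refine ⟨((c : ↥S) : G), c.1.2, ?_, ?_, ?_⟩
  · have h7 : c ^ 2 = 1 := by rw [← hc]; exact pow_orderOf_eq_one c
    rw [pow_two] at h7
    have h8 := congrArg (fun y : ↥C => ((y : ↥S) : G)) h7
    simpa using h8
  · intro h7
    have h8 : c = 1 := Subtype.ext (Subtype.ext h7)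
    rw [h8, orderOf_one] at hc
    exact absurd hc (by norm_num)
  · have h7 := c.2
    change (c : ↥S) ∈ (centralizer ({t} : Set G)).subgroupOf S at h7
    rw [mem_subgroupOf, mem_centralizer_singleton_iff] at h7
    exact h7

/-- **No nilpotent minimal cover** if `S` has index dividing `2`, trivial centralizer and `Kill3 S`. -/
theorem not_kill3 [Finite G] {𝓐 : Finset (Subgroup G)} (h : NMC 𝓐) (S : Subgroup G) [hS : S.Normal]
    (hSc : centralizer (S : Set G) = ⊥) (hi : S.index ∣ 2) (hk : Kill3 ↥S) : False := by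
  obtain ⟨r, ⟨z, hzS⟩, ⟨k, hkS⟩, H, hr, hr2, hz, hcz, hinv, hH, hzH, hkH, hkz, h2⟩ := hk
  have hzr : orderOf z = r := by rw [← hz, ← orderOf_coe]
  have hc : ∀ x ∈ S, x * z = z * x → x ∈ zpowers z := by
    intro x hx hxz
    obtain ⟨j, hj⟩ := mem_zpowers_iff.1 (hcz ⟨x, hx⟩ (Subtype.ext hxz))
    exact mem_zpowers_iff.2 ⟨j, by simpa using congrArg Subtype.val hj⟩
  have hinv' : ∀ x ∈ S, x * x = 1 → x * z * x⁻¹ ∈ zpowers z → x = 1 := by
    intro x hx hxx hxz
    obtain ⟨j, hj⟩ := mem_zpowers_iff.1 hxz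
    have h3 := hinv ⟨x, hx⟩ (Subtype.ext hxx) (mem_zpowers_iff.2 ⟨j, Subtype.ext (by simpa using hj)⟩)
    exact congrArg Subtype.val h3
  have hkz' : k * z * k⁻¹ ∉ zpowers z := by
    intro h3
    obtain ⟨j, hj⟩ := mem_zpowers_iff.1 h3
    exact hkz (mem_zpowers_iff.2 ⟨j, Subtype.ext (by simpa using hj)⟩)
  -- members containing a conjugate of `z`
  have hmem : ∀ g : G, ∃ A ∈ 𝓐, g * z * g⁻¹ ∈ A ∧ ∀ a ∈ A, a * (g * z * g⁻¹) = (g * z * g⁻¹) * a := by
    intro g
    obtain ⟨A, hA, hgA⟩ := h.cov.2 (g * z * g⁻¹)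
    refine ⟨A, hA, hgA, ?_⟩
    have h3 := le_centralizer (S := S) hr hzS hzr hc (nilpotent_conj (h.nil A hA) g⁻¹)
      (by rw [mem_conj, inv_inv]; exact hgA)
    intro a ha
    have h4 := h3 (g⁻¹ * a * g) (by rw [mem_conj]; simpa [mul_assoc] using ha)
    calc a * (g * z * g⁻¹) = g * ((g⁻¹ * a * g) * z) * g⁻¹ := by group
      _ = g * (z * (g⁻¹ * a * g)) * g⁻¹ := by rw [h4]
      _ = g * z * g⁻¹ * a := by group
  -- the case `C_G(z) ≤ S`
  have hcase : ∀ M : Subgroup G, M ≠ ⊤ → (∀ x : G, x * z = z * x → x ∈ zpowers z) → z ∈ M → k ∈ M → False := by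
    intro M hM hcG hzM hkM
    obtain ⟨A, hA, hzA, hA2⟩ := hmem 1
    rw [one_mul, inv_one, mul_one] at hzA hA2
    obtain ⟨B, hB, hzB, hB2⟩ := hmem k
    have hAM : A ≤ M := fun a ha => (zpowers_le.2 hzM) (hcG a (hA2 a ha))
    have hBM : B ≤ M := by
      intro b hb
      have h4 := hB2 b hb
      have h5 : k⁻¹ * b * k ∈ zpowers z := by
        apply hcG
        calc k⁻¹ * b * k * z = k⁻¹ * (b * (k * z * k⁻¹)) * k := by group
          _ = k⁻¹ * (k * z * k⁻¹ * b) * k := by rw [h4]
          _ = z * (k⁻¹ * b * k) := by group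
      have h6 : k * (k⁻¹ * b * k) * k⁻¹ ∈ M :=
        M.mul_mem (M.mul_mem hkM ((zpowers_le.2 hzM) h5)) (M.inv_mem hkM)
      simpa [mul_assoc] using h6
    have hAB := h.eq_of_le hA hB hM hAM hBM
    rw [← hAB] at hzB
    exact hkz' (hcG _ (hA2 _ hzB))
  rcases (Nat.dvd_prime Nat.prime_two).1 hi with hi1 | hi2
  · -- index one
    have htop : S = ⊤ := index_eq_one.1 hi1
    refine hcase (H.map S.subtype) ?_ ?_ ⟨⟨z, hzS⟩, hzH, rfl⟩ ⟨⟨k, hkS⟩, hkH, rfl⟩
    · intro hT
      apply hH
      rw [eq_top_iff]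
      rintro x -
      have h3 : (x : G) ∈ H.map S.subtype := by rw [hT]; exact mem_top _
      obtain ⟨y, hy, hyx⟩ := h3
      rwa [← Subtype.ext (show (y : G) = x from hyx)]
    · intro x hx
      exact hc x (by rw [htop]; exact mem_top x) hx
  · -- index two
    have hStop : S ≠ ⊤ := by
      rintro rfl
      rw [index_top] at hi2
      exact absurd hi2 (by norm_num)
    by_cases hall : ∀ x : G, x * z = z * x → x ∈ S
    · exact hcase S hStop (fun x hx => hc x (hall x hx) hx) hzS hkS
    · push Not at hall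
      obtain ⟨g, hgz, hgS⟩ := hall
      have hmul : ∀ a b : G, a ∉ S → b ∉ S → a * b ∈ S := by
        intro a b ha hb
        exact (mul_mem_iff_of_index_two hi2).2 (by tauto)
      -- the involution
      obtain ⟨j, hj⟩ : ∃ j : ℤ, z ^ j = g * g := by
        refine mem_zpowers_iff.1 (hc _ (hmul g g hgS hgS) ?_)
        rw [mul_assoc, hgz, ← mul_assoc, hgz, mul_assoc]
      obtain ⟨m, hm⟩ := hr.odd_of_ne_two hr2
      let t : G := g ^ r
      have htdef : t = (g * g) ^ m * g := by
        change g ^ r = _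
        rw [hm, pow_succ, pow_mul, pow_two]
      have hggS : g * g ∈ S := hmul g g hgS hgS
      have htS : t ∉ S := by
        intro h3
        rw [htdef] at h3
        exact hgS ((S.mul_mem_cancel_left (S.pow_mem hggS m)).1 h3)
      have htt : t * t = 1 := by
        change g ^ r * g ^ r = 1
        rw [← (Commute.refl g).mul_pow, ← hj, ← zpow_natCast, ← zpow_mul, mul_comm, zpow_mul, zpow_natCast,
          ← hzr, pow_orderOf_eq_one, one_zpow]
      have htz : t * z = z * t := ((show Commute g z from hgz).pow_left r).eq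
      have ht1 : t ≠ 1 := fun h3 => htS (by rw [h3]; exact S.one_mem)
      have hCt : centralizer ({t} : Set G) ≠ ⊤ := by
        intro hT
        apply ht1
        have h3 : t ∈ centralizer (S : Set G) := by
          rw [mem_centralizer_iff]
          intro s _
          have h4 : s ∈ centralizer ({t} : Set G) := by rw [hT]; exact mem_top s
          exact mem_centralizer_singleton_iff.1 h4
        rw [hSc, mem_bot] at h3
        exact h3
      -- `C_G(z) ≤ C_G(t)`
      have hzt : ∀ x : G, x * z = z * x → x * t = t * x := by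
        intro x hx
        have hcz' : ∀ y ∈ zpowers z, y * t = t * y := by
          intro y hy
          obtain ⟨i, rfl⟩ := mem_zpowers_iff.1 hy
          exact ((show Commute z t from htz.symm).zpow_left i).eq
        by_cases hxS : x ∈ S
        · exact hcz' x (hc x hxS hx)
        · have h3 : x * t ∈ zpowers z := hc _ (hmul x t hxS htS) (by
            rw [mul_assoc, htz, ← mul_assoc, hx, mul_assoc])
          have h4 := hcz' _ h3
          calc x * t = (x * t * t) * t := by rw [mul_assoc x t t, htt, mul_one]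
            _ = (t * (x * t)) * t := by rw [h4]
            _ = t * x := by rw [mul_assoc, mul_assoc x t t, htt, mul_one]
      obtain ⟨A, hA, hAM, hcl⟩ := h.exists_member hCt (x := z) (by
        intro A hA hzA a ha
        rw [mem_centralizer_singleton_iff]
        exact hzt a (le_centralizer (S := S) hr hzS hzr hc hA hzA a ha))
      have hzA : z ∈ A := hcl (subset_closure (mem_cjs_self _ z))
      obtain ⟨c, hcS, hcc, hc1, hct⟩ := exists_involution_commuting (S := S) h2 htt
      have h5 : c * z * c⁻¹ ∈ A := hcl (subset_closure ⟨c, by rw [mem_centralizer_singleton_iff]; exact hct, rfl⟩)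
      have h6 := le_centralizer (S := S) hr hzS hzr hc (h.nil A hA) hzA _ h5
      exact hc1 (hinv' c hcS hcc (hc _ (hS.conj_mem z hzS c) h6))

/-- Invariance under isomorphisms. -/
theorem Kill3.congr {S T : Type*} [Group S] [Group T] (e : S ≃* T) (h : Kill3 S) : Kill3 T := by
  obtain ⟨r, z, k, H, hr, hr2, hz, hc, hi, hH, hzH, hkH, hkz, h2⟩ := h
  have hzp : ∀ x : T, e.symm x ∈ zpowers z → x ∈ zpowers (e z) := by
    intro x hx
    obtain ⟨i, hi⟩ := mem_zpowers_iff.1 hx
    exact mem_zpowers_iff.2 ⟨i, by rw [← map_zpow, hi, MulEquiv.apply_symm_apply]⟩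
  have hzp' : ∀ x : T, x ∈ zpowers (e z) → e.symm x ∈ zpowers z := by
    intro x hx
    obtain ⟨i, rfl⟩ := mem_zpowers_iff.1 hx
    exact mem_zpowers_iff.2 ⟨i, by rw [← map_zpow, MulEquiv.symm_apply_apply]⟩
  refine ⟨r, e z, e k, H.map e.toMonoidHom, hr, hr2, by rw [MulEquiv.orderOf_eq]; exact hz, ?_, ?_, ?_,
    ⟨z, hzH, rfl⟩, ⟨k, hkH, rfl⟩, ?_, by rw [← Nat.card_congr e.toEquiv]; exact h2⟩
  · intro x hx
    exact hzp x (hc _ (e.injective (by simpa using hx)))
  · intro x hx hxz
    have h3 := hi (e.symm x) (e.injective (by simpa using hx)) (by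
      have h4 := hzp' _ hxz
      simpa using h4)
    simpa using congrArg e h3
  · intro hT
    apply hH
    rw [eq_top_iff]
    rintro x -
    have h3 : e x ∈ H.map e.toMonoidHom := by rw [hT]; exact mem_top _
    obtain ⟨y, hy, hyx⟩ := h3
    rwa [← e.injective (show e y = e x from hyx)]
  · intro h3
    apply hkz
    have h4 := hzp' _ h3
    simpa using h4

end Cfsg.Agent.H54.Kill
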