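import Cfsg.Agent.H54.Kill.Three

/-!
# `Kill3` from numerical data (helper54, S3925, S3926)
-/

set_option autoImplicit false

namespace Cfsg.Agent.H54.Kill

open Subgroup Cfsg.Agent.H480

/-- If `C(x) = ⟨x⟩` with `x` of prime order `s`, `s² ∤ |G|` and `|G| / s mod s` is odd, no involution normalizes
`⟨x⟩`. -/
theorem eq_one_of_normalizes {G : Type*} [Group G] [Finite G] {x : G} {s n : ℕ} (hs : s.Prime)
    (hx : orderOf x = s) (hn : Nat.card G = n) (hsq : ¬ s * s ∣ n) (hodd : n / s % s % 2 = 1) (hs2 : s ≠ 2)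
    (hc : ∀ y : G, y * x = x * y → y ∈ zpowers x) (t : G) (ht : t * t = 1) (htx : t * x * t⁻¹ ∈ zpowers x) :
    t = 1 := by
  classical
  have : Fact s.Prime := ⟨hs⟩
  have hcz : Nat.card (zpowers x) = s := by rw [Nat.card_zpowers, hx]
  have hidx : ¬ s ∣ (zpowers x).index := by
    intro h
    apply hsq
    rw [← hn, ← Subgroup.card_mul_index (zpowers x), hcz]
    exact Nat.mul_dvd_mul_left s h
  have hP : IsPGroup s (zpowers x) := IsPGroup.of_card (n := 1) (by rw [hcz, pow_one])
  let P : Sylow s G := hP.toSylow hidx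
  let N := normalizer (zpowers x : Set G)
  have hNn : ((zpowers x).subgroupOf N).Normal := Subgroup.normal_in_normalizer (H := zpowers x)
  let Z := (zpowers x).subgroupOf N
  let φ : N →* MulAut Z := MulAut.conjNormal
  have hZc : Nat.card Z = s := by
    rw [Nat.card_congr (Subgroup.subgroupOfEquivOfLe (Subgroup.le_normalizer)).toEquiv, hcz]
  have hker : φ.ker = Z := by
    ext g
    rw [MonoidHom.mem_ker]
    constructor
    · intro h
      have h1 : ((φ g ⟨⟨x, Subgroup.le_normalizer (mem_zpowers x)⟩, mem_zpowers x⟩ : Z) : N) =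
          (⟨x, Subgroup.le_normalizer (mem_zpowers x)⟩ : N) := by rw [h]; rfl
      have h2 : (g : G) * x * (g : G)⁻¹ = x := congrArg Subtype.val h1
      have h3 : (g : G) ∈ zpowers x := by
        apply hc
        calc (g : G) * x = g * x * (g : G)⁻¹ * g := by group
          _ = x * g := by rw [h2]
      exact h3
    · intro h
      have hg : (g : G) ∈ zpowers x := h
      apply MulEquiv.ext
      rintro ⟨⟨y, hyN⟩, hy⟩
      apply Subtype.ext
      apply Subtype.ext
      have hy' : y ∈ zpowers x := hy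
      obtain ⟨k, rfl⟩ := mem_zpowers_iff.1 hy'
      obtain ⟨j, hj⟩ := mem_zpowers_iff.1 hg
      change (g : G) * x ^ k * (g : G)⁻¹ = x ^ k
      rw [← hj, ← zpow_neg, ← zpow_add, ← zpow_add]
      congr 1
      ring
  have hcyc : IsCyclic Z := isCyclic_of_prime_card hZc
  have hrange : Nat.card φ.range ∣ s - 1 := by
    have h4 : Nat.card φ.range ∣ Nat.card (MulAut Z) := Subgroup.card_subgroup_dvd_card _
    rwa [IsCyclic.card_mulAut, hZc, Nat.totient_prime hs] at h4
  have hNcard : Nat.card N = s * Nat.card φ.range := by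
    have h1 := Subgroup.card_mul_index φ.ker
    rw [Subgroup.index_ker, hker, hZc] at h1
    exact h1.symm
  have h1 : Nat.card (Sylow s G) ≡ 1 [MOD s] := card_sylow_modEq_one s G
  have h2 : Nat.card (Sylow s G) = N.index := by
    rw [Sylow.card_eq_index_normalizer P]
    rfl
  rw [h2] at h1
  have h3 : n / s = Nat.card φ.range * N.index := by
    rw [← hn, ← Subgroup.card_mul_index N, hNcard, mul_assoc]
    exact Nat.mul_div_cancel_left _ hs.pos
  have h4 : n / s % s = Nat.card φ.range := by
    rw [h3]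
    have h5 : Nat.card φ.range * N.index ≡ Nat.card φ.range * 1 [MOD s] := h1.mul_left _
    rw [mul_one] at h5
    have h6 : Nat.card φ.range < s :=
      lt_of_le_of_lt (Nat.le_of_dvd (Nat.sub_pos_of_lt hs.one_lt) hrange) (Nat.sub_lt hs.pos one_pos)
    rw [h5, Nat.mod_eq_of_lt h6]
  rw [h4] at hodd
  -- `t ∈ N`
  have htN : t ∈ N := by
    have hle : (zpowers x).map (MulAut.conj t).toMonoidHom ≤ zpowers x := by
      rw [map_le_iff_le_comap, zpowers_le]
      exact htx
    have heq : (zpowers x).map (MulAut.conj t).toMonoidHom = zpowers x := by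
      refine Subgroup.eq_of_le_of_card_ge hle ?_
      exact (Nat.card_congr (MulEquiv.subgroupMap (MulAut.conj t) (zpowers x)).toEquiv).le
    change t ∈ normalizer (zpowers x : Set G)
    rw [mem_normalizer_iff]
    intro y
    constructor
    · intro hy
      exact hle ⟨y, hy, rfl⟩
    · intro hy
      have hy' : t * y * t⁻¹ ∈ (zpowers x).map (MulAut.conj t).toMonoidHom := by
        rw [heq]
        exact hy
      rw [H480.mem_conj] at hy'
      simpa [mul_assoc] using hy'
  by_contra ht1
  have ho : orderOf t = 2 := orderOf_eq_prime (by rw [pow_two]; exact ht) ht1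
  have h7 : 2 ∣ Nat.card N := by
    rw [← ho, ← orderOf_mk t htN]
    exact orderOf_dvd_natCard _
  rw [hNcard] at h7
  rcases (Nat.Prime.dvd_mul Nat.prime_two).1 h7 with h8 | h8
  · exact hs2 ((Nat.prime_dvd_prime_iff_eq Nat.prime_two hs).1 h8).symm
  · omega

/-- numerical form of the second criterion -/
theorem Kill3.of {S : Type*} [Group S] [Finite S] {r n : ℕ} (hr : r.Prime) (hr2 : r ≠ 2) (hn : Nat.card S = n)
    (hsq : ¬ r * r ∣ n) (hodd : n / r % r % 2 = 1) (h2 : 2 ∣ n) {z k : S} (hz : orderOf z = r)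
    (hc : ∀ x : S, x * z = z * x → x ∈ zpowers z) (H : Subgroup S) (hH : H ≠ ⊤) (hzH : z ∈ H) (hkH : k ∈ H)
    (hkz : k * z * k⁻¹ ∉ zpowers z) : Kill3 S :=
  ⟨r, z, k, H, hr, hr2, hz, hc, eq_one_of_normalizes hr hz hn hsq hodd hr2 hc, hH, hzH, hkH, hkz, by rw [hn]; exact h2⟩

end Cfsg.Agent.H54.Kill
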